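import Cfsg.Agent.Lib.OddCorr.Retraction
import Cfsg.Agent.Lib.Glauberman.Corr
import Cfsg.Agent.Lib.Glauberman.Constituent
import Cfsg.Agent.Lib.CT.Clifford

/-!
# The correspondence of characters over a central subgroup, odd order, abelian section

`G = K H` of odd order with `H` the fixed points of a coprime group of operators, `K` normal,
`K ∩ H = Z` central containing the commutators of `K`.  The inversion of `K` modulo `Z` fixing
`Z` and `H` is an automorphism of `G` with fixed points `H`, it fixes every invariant character,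
and the Glauberman correspondence for it has multiplicities odd exactly once.
-/

set_option autoImplicit false
set_option linter.all false

namespace Cfsg.Agent.OddCorr

open Cfsg.Agent Cfsg.Agent.Glauberman
open scoped commutatorElement

universe u v

variable {G : Type u} [Group G] [Fintype G] {A : Type v} [Group A] [Finite A]

theorem central_main (φ : A →* MulAut G) (hodd : Odd (Nat.card G)) (hsolv : Group.IsSolvable G)
    (hcop : (Nat.card A).Coprime (Nat.card G)) (Z K H : Subgroup G) [Fintype Z] [Fintype H]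
    [K.Normal] (hZc : Z ≤ Subgroup.center G) (hZH : Z ≤ H) (hZK : Z ≤ K)
    (hKA : ∀ a, ∀ k ∈ K, φ a k ∈ K) (hder : ∀ a ∈ K, ∀ b ∈ K, ⁅a, b⁆ ∈ Z) (hKH : K ⊓ H ≤ Z)
    (htop : K ⊔ H = ⊤) (hH : ∀ g, g ∈ H ↔ ∀ a, φ a g = g) :
    (∀ χ : IrrCharacter G, Inv φ (χ : G → ℂ) → ∃! β : IrrCharacter H, ∃ m : ℕ,
        classInner (fun h : H => (χ : G → ℂ) h) (β : H → ℂ) = (m : ℂ) ∧ Odd m) ∧
      (∀ χ χ' : IrrCharacter G, Inv φ (χ : G → ℂ) → Inv φ (χ' : G → ℂ) →
        ∀ β : IrrCharacter H, ∀ m m' : ℕ,
          classInner (fun h : H => (χ : G → ℂ) h) (β : H → ℂ) = (m : ℂ) → Odd m →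
          classInner (fun h : H => (χ' : G → ℂ) h) (β : H → ℂ) = (m' : ℂ) → Odd m' → χ = χ') ∧
      ∀ β : IrrCharacter H, ∃ χ : IrrCharacter G, Inv φ (χ : G → ℂ) ∧ ∃ m : ℕ,
        classInner (fun h : H => (χ : G → ℂ) h) (β : H → ℂ) = (m : ℂ) ∧ Odd m := by
  classical
  haveI := Fintype.ofFinite K
  let ψ : A →* MulAut K := resN φ K hKA
  have hψv : ∀ a (k : K), ((ψ a k : K) : G) = φ a k := fun _ _ => rfl
  let Z' : Subgroup K := Z.subgroupOf K
  have hcK : ∀ a b : K, ((⁅a, b⁆ : K) : G) = ⁅(a : G), (b : G)⁆ := fun a b =>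
    map_commutatorElement K.subtype a b
  have hdK : ∀ a b : K, ⁅a, b⁆ ∈ Z' := fun a b => by
    rw [Subgroup.mem_subgroupOf, hcK]; exact hder _ a.2 _ b.2
  have hZ'c : Z' ≤ Subgroup.center K := fun z hz => Subgroup.mem_center_iff.mpr fun x =>
    Subtype.ext (Subgroup.mem_center_iff.mp (hZc hz) x)
  have hcen : ∀ a b : K, ⁅a, b⁆ ∈ Subgroup.center K := fun a b => hZ'c (hdK a b)
  have hKodd : Odd (Nat.card K) := hodd.of_dvd_nat (Subgroup.card_subgroup_dvd_card K)
  obtain ⟨r, hrZ, hrfix, hrmul, hrψ, hrc⟩ := exists_retraction hKodd Z' hZ'c hdK ψ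
    (hcop.coprime_dvd_right (Subgroup.card_subgroup_dvd_card K))
    (fun a z hz => Subtype.ext ((hH _).mp (hZH hz) a))
    (fun k hk => hKH ⟨k.2, (hH _).mpr fun a => congrArg Subtype.val (hk a)⟩)
  set hh := (Nat.card K + 1) / 2
  have hsw : ∀ {z : K}, z ∈ Z' → ∀ x : K, Commute z x := fun hz x =>
    (Subgroup.mem_center_iff.mp (hZ'c hz) x).symm
  have hr1 : r 1 = 1 := hrfix 1 (one_mem _)
  have hrz : ∀ (k : K), ∀ z ∈ Z', r (k * z) = r k * z := fun k z hz => by
    rw [hrmul, hrfix z hz, comm_central_right (hZ'c hz), one_pow, mul_one]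
  have hrinv : ∀ k, r k⁻¹ = (r k)⁻¹ := fun k => eq_inv_of_mul_eq_one_left (by
    have := hrmul k⁻¹ k
    rw [inv_mul_cancel, hr1, show ⁅k⁻¹, k⁆ = 1 by simp [commutatorElement_def], one_pow, mul_one]
      at this
    exact this.symm)
  have hconjZ : ∀ (h : G) (z : K), z ∈ Z' → h * (z : G) * h⁻¹ = z := fun h z hz => by
    rw [(Subgroup.mem_center_iff.mp (hZc (show (z : G) ∈ Z from hz)) h :
      h * (z : G) = (z : G) * h), mul_inv_cancel_right]
  -- elements of `H` act on `K`
  let cj : G → MulAut K := fun g => MulAut.conjNormal g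
  have hrH : ∀ h ∈ H, ∀ k, r (cj h k) = r k := fun h hh' => hrc (cj h)
    (fun z hz => Subtype.ext (by
      show (MulAut.conjNormal h z : K).1 = z.1
      rw [MulAut.conjNormal_apply, hconjZ h z hz]))
    (fun a k => Subtype.ext (by
      show (MulAut.conjNormal h (ψ a k) : K).1 = (ψ a (MulAut.conjNormal h k) : K).1
      rw [MulAut.conjNormal_apply, hψv, hψv, MulAut.conjNormal_apply, map_mul, map_mul, map_inv,
        (hH h).mp hh' a]))
  -- the inversion
  let s : K → K := fun k => k⁻¹ * r k * r k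
  have hsz : ∀ z ∈ Z', s z = z := fun z hz => by
    show z⁻¹ * r z * r z = z
    rw [hrfix z hz, inv_mul_cancel, one_mul]
  have hsmul : ∀ a b, s (a * b) = s a * s b := by
    intro a b
    show (a * b)⁻¹ * r (a * b) * r (a * b) = (a⁻¹ * r a * r a) * (b⁻¹ * r b * r b)
    have hcz : ⁅a, b⁆ ^ hh ∈ Z' := pow_mem (hdK a b) _
    have e1 : r (a * b) * r (a * b) = r a * r a * (r b * r b) * ⁅a, b⁆ := by
      rw [hrmul]
      conv_rhs => rw [← pow_two_half hKodd ⁅a, b⁆]
      generalize ⁅a, b⁆ ^ hh = c at hcz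
      rw [show r a * r b * c * (r a * r b * c) = r a * r b * (c * (r a * r b)) * c by
          simp only [mul_assoc],
        (hsw hcz (r a * r b)).eq,
        show r a * r b * (r a * r b * c) * c = r a * (r b * r a) * r b * (c * c) by
          simp only [mul_assoc],
        (hsw (hrZ b) (r a)).eq]
      simp only [mul_assoc]
    rw [mul_assoc, e1, mul_inv_rev]
    have hA : r a * r a ∈ Z' := mul_mem (hrZ a) (hrZ a)
    have hB : r b * r b ∈ Z' := mul_mem (hrZ b) (hrZ b)
    rw [mul_assoc (a⁻¹) (r a) (r a), mul_assoc (b⁻¹) (r b) (r b)]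
    generalize r a * r a = za at hA
    generalize r b * r b = zb at hB
    rw [show b⁻¹ * a⁻¹ * (za * zb * ⁅a, b⁆) = b⁻¹ * a⁻¹ * (⁅a, b⁆ * (za * zb)) by
        rw [(hsw (hdK a b) (za * zb)).eq],
      show b⁻¹ * a⁻¹ * (⁅a, b⁆ * (za * zb)) = b⁻¹ * a⁻¹ * ⁅a, b⁆ * (za * zb) by
        simp only [mul_assoc]]
    have e2 : b⁻¹ * a⁻¹ * ⁅a, b⁆ = a⁻¹ * b⁻¹ := by
      rw [commutatorElement_def]
      group
    rw [e2, show a⁻¹ * za * (b⁻¹ * zb) = a⁻¹ * (za * b⁻¹) * zb by simp only [mul_assoc],
      (hsw hA b⁻¹).eq]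
    simp only [mul_assoc]
  have hdec : ∀ g : G, ∃ k : K, ∃ h ∈ H, g = k * h := fun g => by
    have : g ∈ K ⊔ H := htop ▸ Subgroup.mem_top g
    rw [Subgroup.mem_sup_of_normal_left] at this
    obtain ⟨k, hk, h, hh', rfl⟩ := this
    exact ⟨⟨k, hk⟩, h, hh', rfl⟩
  choose kk hv hhv hkv using hdec
  let sg : G → G := fun g => (s (kk g) : G) * hv g
  have hsg : ∀ (k : K), ∀ h ∈ H, sg ((k : G) * h) = (s k : G) * h := by
    intro k h hh'
    have e := hkv ((k : G) * h)
    generalize kk ((k : G) * h) = k' at e ⊢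
    set h' := hv ((k : G) * h) with hh''
    have hh2 : h' ∈ H := hhv _
    show (s (kk ((k : G) * h)) : G) * h' = _
    have e' := hkv ((k : G) * h)
    generalize kk ((k : G) * h) = k2 at e' ⊢
    have hz : k⁻¹ * k2 ∈ Z' := by
      rw [Subgroup.mem_subgroupOf]
      refine hKH ⟨(k⁻¹ * k2).2, ?_⟩
      have : ((k⁻¹ * k2 : K) : G) = h * h'⁻¹ := by
        rw [Subgroup.coe_mul, Subgroup.coe_inv, inv_mul_eq_iff_eq_mul, ← mul_assoc, e',
          mul_inv_cancel_right]
      show ((k⁻¹ * k2 : K) : G) ∈ H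
      rw [this]
      exact mul_mem hh' (inv_mem hh2)
    have e3 : k2 = k * (k⁻¹ * k2) := by group
    rw [e3, hsmul, hsz _ hz, Subgroup.coe_mul, mul_assoc]
    congr 1
    rw [Subgroup.coe_mul, Subgroup.coe_inv, mul_assoc, ← e', inv_mul_cancel_left]
  have hsH : ∀ h ∈ H, ∀ k, s (cj h k) = cj h (s k) := fun h hh' k => by
    have hz : ∀ z ∈ Z', cj h z = z := fun z hz => Subtype.ext (by
      show (MulAut.conjNormal h z : K).1 = z.1
      rw [MulAut.conjNormal_apply, hconjZ h z hz])
    show (cj h k)⁻¹ * r (cj h k) * r (cj h k) = cj h (k⁻¹ * r k * r k)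
    rw [hrH h hh', map_mul, map_mul, map_inv, hz _ (hrZ k)]
  have hsgmul : ∀ x y, sg (x * y) = sg x * sg y := by
    intro x y
    have ex := hkv x
    have ey := hkv y
    have hh' := hhv x
    generalize kk x = k at ex
    generalize kk y = k' at ey
    have hy' := hhv y
    generalize hv x = h at ex hh'
    generalize hv y = h' at ey hy'
    subst ex ey
    have e : (k : G) * h * ((k' : G) * h') = ((k * cj h k' : K) : G) * (h * h') := by
      rw [Subgroup.coe_mul]
      show _ = (k : G) * (MulAut.conjNormal h k' : K).1 * (h * h')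
      rw [MulAut.conjNormal_apply]; group
    rw [e, hsg _ _ (mul_mem hh' hy'), hsg _ _ hh', hsg _ _ hy', hsmul, hsH h hh', Subgroup.coe_mul]
    show (s k : G) * (MulAut.conjNormal h (s k') : K).1 * (h * h') = _
    rw [MulAut.conjNormal_apply]; group
  have hss : ∀ k, s (s k) = k := fun k => by
    have hz : r k * r k ∈ Z' := mul_mem (hrZ k) (hrZ k)
    show (k⁻¹ * r k * r k)⁻¹ * r (k⁻¹ * r k * r k) * r (k⁻¹ * r k * r k) = k
    rw [mul_assoc k⁻¹, hrz _ _ hz, hrinv, mul_inv_rev, inv_inv, inv_mul_cancel_left,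
      mul_assoc, (hsw (hrZ k) (r k)).eq, (hsw (inv_mem hz) k).eq, mul_assoc,
      show (r k * r k)⁻¹ * (r k * r k) = 1 from inv_mul_cancel _, mul_one]
  have hsgsg : ∀ g, sg (sg g) = g := fun g => by
    show sg ((s (kk g) : G) * hv g) = g
    rw [hsg _ _ (hhv g), hss, ← hkv g]
  let σ : MulAut G :=
    { toFun := sg, invFun := sg, left_inv := hsgsg, right_inv := hsgsg, map_mul' := hsgmul }
  let B : Subgroup (MulAut G) := Subgroup.zpowers σ
  have hσ2 : σ ^ 2 = 1 := MulEquiv.ext fun g => by rw [pow_two]; exact hsgsg g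
  have hB : IsPGroup 2 B := fun x => ⟨1, by
    obtain ⟨n, hn⟩ := x.2
    refine Subtype.ext ?_
    rw [pow_one, Subgroup.coe_pow, ← hn]
    show (σ ^ n) ^ 2 = 1
    rw [← zpow_natCast, ← zpow_mul, mul_comm, zpow_mul, zpow_natCast, hσ2, one_zpow]⟩
  have h2 : ¬ 2 ∣ Nat.card G := by
    rw [Nat.two_dvd_ne_zero]; exact Nat.odd_iff.mp hodd
  have hfixB : ∀ g, g ∈ H.subtype.range ↔ ∀ b : B, B.subtype b g = g := by
    intro g
    rw [Subgroup.range_subtype]
    constructor
    · intro hg b
      obtain ⟨n, hn⟩ := b.2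
      show (b : MulAut G) g = g
      rw [← hn]
      have h1 : σ g = g := by
        show sg g = g
        have := hsg 1 g hg
        rwa [hsz 1 (one_mem _), Subgroup.coe_one, one_mul] at this
      exact zpow_smul_fix h1 n
    · intro h
      have h1 : sg g = g := h ⟨σ, Subgroup.mem_zpowers σ⟩
      have e := hkv g
      change (s (kk g) : G) * hv g = g at h1
      have h3 : s (kk g) = kk g := Subtype.ext (mul_right_cancel (h1.trans e))
      have h4 : (kk g * (r (kk g))⁻¹) * (kk g * (r (kk g))⁻¹) = 1 := by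
        have : r (kk g) * r (kk g) = kk g * kk g := by
          have h5 : (kk g)⁻¹ * (r (kk g) * r (kk g)) = kk g := by rw [← mul_assoc]; exact h3
          exact inv_mul_eq_iff_eq_mul.mp h5
        have hz := hsw (inv_mem (hrZ (kk g))) (kk g)
        rw [show kk g * (r (kk g))⁻¹ * (kk g * (r (kk g))⁻¹) =
          kk g * ((r (kk g))⁻¹ * kk g) * (r (kk g))⁻¹ by simp only [mul_assoc], hz.eq, ← mul_assoc,
          ← this]
        group
      have h6 : kk g * (r (kk g))⁻¹ = 1 := by
        generalize kk g * (r (kk g))⁻¹ = x at h4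
        obtain ⟨m, hm⟩ := hKodd
        have := pow_card_eq_one' (x := x)
        rw [hm, pow_succ, pow_mul, pow_two, h4, one_pow, one_mul] at this
        exact this
      rw [e]
      refine mul_mem (hZH ?_) (hhv g)
      rw [mul_inv_eq_one.mp h6]
      exact hrZ (kk g)
  obtain ⟨Φ, hΦ⟩ := Glauberman.corr (ι := H.subtype) hB h2 H.subtype_injective hfixB
  -- invariant characters are fixed by the inversion
  have key : ∀ χ : IrrCharacter G, Inv φ (χ : G → ℂ) → Inv B.subtype (χ : G → ℂ) := by
    intro χ hχ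
    suffices h : ∀ g, (χ : G → ℂ) (σ g) = (χ : G → ℂ) g by
      intro b g
      obtain ⟨n, hn⟩ := b.2
      show (χ : G → ℂ) ((b : MulAut G) g) = _
      rw [← hn]
      exact inv_zpow_of_inv (fun x => (χ : G → ℂ) x) h n g
    obtain ⟨n, ρ, hρ, hρχ⟩ := χ.2
    haveI := hρ
    haveI : Group.IsSolvable (G ⧸ K) :=
      haveI := hsolv; Group.isSolvable_of_surjective (QuotientGroup.mk'_surjective K)
    obtain ⟨φ₀, hφ₀, hφχ⟩ := Glauberman.exists_inv_below φ K hKA
      (hcop.symm.coprime_dvd_left (Subgroup.index_dvd_card K)) (Or.inr inferInstance) χ hχ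
    obtain ⟨d, τ, hτ, hτφ⟩ := φ₀.2
    haveI := hτ
    -- scalars
    have hsc : ∀ z ∈ Z', ∃ c : ℂ, τ z = c • LinearMap.id := fun z hz =>
      ⟨_, CT.eq_scalar_of_commute τ (τ z) fun x => by rw [← map_mul, ← map_mul, (hsw hz x).eq]⟩
    let R : Subgroup K :=
      { carrier := {k | ∀ y : K, τ ⁅y, k⁆ = 1}
        one_mem' := fun y => by simp
        mul_mem' := fun {a b} ha hb y => by
          rw [comm_mul_right hcen, map_mul, ha y, hb y, one_mul]
        inv_mem' := fun {a} ha y => by
          have h1 := comm_mul_right hcen y a a⁻¹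
          rw [mul_inv_cancel, commutatorElement_one_right] at h1
          have h2 := congrArg τ h1
          rw [map_one, map_mul, ha y, one_mul] at h2
          exact h2.symm }
    let un : K → K := fun k => k * (r k)⁻¹
    have hcun : ∀ y k : K, ⁅y, un k⁆ = ⁅y, k⁆ := fun y k => by
      show ⁅y, k * (r k)⁻¹⁆ = _
      rw [comm_mul_right hcen, comm_central_right (hZ'c (inv_mem (hrZ k))), mul_one]
    have hφcl : ∀ x y, (φ₀ : K → ℂ) (y * x * y⁻¹) = (φ₀ : K → ℂ) x :=
      fun x y => CT.isClassFunction_of_isIrr φ₀.2 x y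
    have hout : ∀ k, k ∉ R → (φ₀ : K → ℂ) (un k) = 0 := by
      intro k hk
      obtain ⟨y, hy⟩ := not_forall.mp hk
      obtain ⟨c, hc⟩ := hsc _ (hdK y (un k))
      have h1 := hφcl (un k) y
      rw [show y * un k * y⁻¹ = ⁅y, un k⁆ * un k by rw [commutatorElement_def]; group, ← hτφ] at h1
      simp only [Representation.character, map_mul, hc] at h1
      rw [← hτφ]
      rw [show (c • LinearMap.id : Module.End ℂ _) * τ (un k) = c • τ (un k) from
        LinearMap.ext fun v => rfl, map_smul, smul_eq_mul] at h1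
      have hc1 : c ≠ 1 := fun e => hy (by
        rw [← hcun, hc, e, one_smul]; rfl)
      have : (c - 1) * LinearMap.trace ℂ _ (τ (un k)) = 0 := by rw [sub_mul, one_mul, h1, sub_self]
      exact (mul_eq_zero.mp this).resolve_left (sub_ne_zero.mpr hc1)
    have hRsc : ∀ k : R, ∃ c : ℂ, τ (un k) = c • LinearMap.id := fun k =>
      ⟨_, CT.eq_scalar_of_commute τ (τ (un k)) fun x => by
        rw [← map_mul, ← map_mul, show un k * x = (⁅x, un k⁆)⁻¹ * (x * un k) by
          rw [commutatorElement_def]; group, map_mul, hcun]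
        have : τ (⁅x, (k : K)⁆)⁻¹ = 1 := by
          have h2 := k.2 x
          have h3 : τ (⁅x, (k : K)⁆)⁻¹ * τ ⁅x, (k : K)⁆ = 1 := by
            rw [← map_mul, inv_mul_cancel, map_one]
          rwa [h2, mul_one] at h3
        rw [this, one_mul]⟩
    choose lam hlam using hRsc
    have hnt : Nontrivial (Fin d → ℂ) := ((CT.isIrreducible_iff τ).mp hτ).1
    have hid : ∀ a b : ℂ, (a • LinearMap.id : Module.End ℂ (Fin d → ℂ)) = b • LinearMap.id → a = b := by
      intro a b e
      obtain ⟨v, hv0⟩ := exists_ne (0 : Fin d → ℂ)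
      have := LinearMap.congr_fun e v
      exact smul_left_injective ℂ hv0 this
    have hlamz : ∀ k : R, ∀ z ∈ Z', ∀ h' : (k : K) * z ∈ R, lam ⟨_, h'⟩ = lam k := by
      intro k z hz h'
      refine hid _ _ ?_
      rw [← hlam, ← hlam]
      congr 1
      show (k : K) * z * (r ((k : K) * z))⁻¹ = (k : K) * (r k)⁻¹
      rw [hrz _ _ hz, mul_inv_rev, mul_assoc, mul_inv_cancel_left]
    have hlam1 : lam 1 = 1 := hid _ _ (by
      rw [← hlam, one_smul, show un ((1 : R) : K) = 1 by simp [un, hr1], map_one]; rfl)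
    have hlammul : ∀ a b : R, lam (a * b) = lam a * lam b := by
      intro a b
      refine hid _ _ ?_
      rw [← hlam, mul_smul]
      have e : un ((a : K) * b) = un a * un b * (⁅(a : K), (b : K)⁆ ^ hh)⁻¹ := by
        show (a : K) * b * (r ((a : K) * b))⁻¹ = (a : K) * (r a)⁻¹ * ((b : K) * (r b)⁻¹) * _
        rw [hrmul]
        have hc := pow_mem (hdK (a : K) b) hh
        generalize ⁅(a : K), (b : K)⁆ ^ hh = c at hc
        rw [mul_inv_rev, mul_inv_rev,
          show (a : K) * (r a)⁻¹ * ((b : K) * (r b)⁻¹) = (a : K) * ((r a)⁻¹ * b) * (r b)⁻¹ by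
            simp only [mul_assoc],
          (hsw (inv_mem (hrZ a)) (b : K)).eq]
        have h1 : Commute c⁻¹ ((r b)⁻¹ * (r a)⁻¹) := hsw (inv_mem hc) _
        rw [h1.eq, (hsw (inv_mem (hrZ b)) (r a)⁻¹).eq]
        simp only [mul_assoc]
      rw [show ((a * b : R) : K) = (a : K) * b from rfl, e, map_mul, map_mul, hlam, hlam]
      have : τ (⁅(a : K), (b : K)⁆ ^ hh)⁻¹ = 1 := by
        have h2 : τ (⁅(a : K), (b : K)⁆ ^ hh) = 1 := by rw [map_pow, b.2 a, one_pow]
        have h3 : τ (⁅(a : K), (b : K)⁆ ^ hh)⁻¹ * τ (⁅(a : K), (b : K)⁆ ^ hh) = 1 := by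
          rw [← map_mul, inv_mul_cancel, map_one]
        rwa [h2, mul_one] at h3
      rw [this, mul_one]
      exact LinearMap.ext fun v => rfl
    let lamH : R →* ℂ := { toFun := lam, map_one' := hlam1, map_mul' := hlammul }
    have hψR : ∀ a, ∀ k ∈ R, ψ a k ∈ R := fun a k hk y => by
      have : ⁅y, ψ a k⁆ = ψ a ⁅ψ a⁻¹ y, k⁆ := by
        rw [map_commutatorElement, map_inv, MulAut.apply_inv_self]
      rw [this, show ψ a ⁅ψ a⁻¹ y, k⁆ = ⁅ψ a⁻¹ y, k⁆ from
        Subtype.ext ((hH _).mp (hZH (hdK _ _)) a)]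
      exact hk _
    have hlaminv : ∀ (a : A) (k : R), lam ⟨ψ a k, hψR a k k.2⟩ = lam k := by
      intro a k
      have h1 : (φ₀ : K → ℂ) (ψ a (un k)) = (φ₀ : K → ℂ) (un k) := hφ₀ a (un k)
      have h2 : ψ a (un k) = un (ψ a k) := by
        show ψ a ((k : K) * (r k)⁻¹) = ψ a k * (r (ψ a k))⁻¹
        rw [map_mul, map_inv, hrψ]
        congr 2
        exact Subtype.ext ((hH _).mp (hZH (hrZ (k : K))) a)
      rw [h2, ← hτφ] at h1
      have hk' := hlam ⟨ψ a k, hψR a k k.2⟩
      simp only [Representation.character, hk', hlam k, map_smul, smul_eq_mul] at h1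
      refine mul_right_cancel₀ ?_ h1
      rw [LinearMap.trace_id, Nat.cast_ne_zero]
      exact Module.finrank_pos.ne'
    have hlamone : ∀ k : R, lam k = 1 := by
      intro k
      haveI := Fintype.ofFinite A
      let ZR : Subgroup R := Z'.subgroupOf R
      haveI : ZR.Normal := ⟨fun z hz g => by
        have : g * z * g⁻¹ = z := Subtype.ext (by
          show (g : K) * z * (g : K)⁻¹ = z
          rw [← (hsw (show (z : K) ∈ Z' from hz) (g : K)).eq, mul_inv_cancel_right])
        rwa [this]⟩
      letI : CommGroup (R ⧸ ZR) :=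
        { (inferInstance : Group (R ⧸ ZR)) with
          mul_comm := fun x y => by
            obtain ⟨x, rfl⟩ := QuotientGroup.mk_surjective x
            obtain ⟨y, rfl⟩ := QuotientGroup.mk_surjective y
            refine commutatorElement_eq_one_iff_mul_comm.mp ?_
            show QuotientGroup.mk' ZR ⁅x, y⁆ = 1
            exact (QuotientGroup.eq_one_iff _).mpr (Subgroup.mem_subgroupOf.mpr
              (by rw [show ((⁅x, y⁆ : R) : K) = ⁅(x : K), (y : K)⁆ from map_commutatorElement R.subtype x y]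
                  exact hdK _ _)) }
      obtain ⟨P, hP⟩ := QuotientGroup.mk_surjective
        (∏ a, (QuotientGroup.mk' ZR) ⟨ψ a k, hψR a k k.2⟩)
      have hPfix : ∀ b, ψ b (P : K) = (P : K) := by
        intro b
        let f : R →* R ⧸ ZR := (QuotientGroup.mk' ZR).comp
          (MonoidHom.mk' (fun x : R => (⟨ψ b x, hψR b x x.2⟩ : R))
            (fun x y => Subtype.ext (map_mul (ψ b) (x : K) y)))
        have hker : ZR ≤ f.ker := fun z hz => (QuotientGroup.eq_one_iff _).mpr
          (Subgroup.mem_subgroupOf.mpr (show ψ b (z : K) ∈ Z' by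
            rw [show ψ b (z : K) = z from Subtype.ext ((hH _).mp (hZH hz) b)]; exact hz))
        have h1 : f P = QuotientGroup.mk' ZR P := by
          have : f P = QuotientGroup.lift ZR f hker (QuotientGroup.mk' ZR P) := rfl
          rw [this, show QuotientGroup.mk' ZR P = _ from hP, map_prod]
          exact Fintype.prod_equiv (Equiv.mulLeft b) _ _ fun a => congrArg (QuotientGroup.mk' ZR)
            (Subtype.ext (by show ψ b (ψ a k) = ψ (b * a) k; rw [map_mul]; rfl))
        obtain ⟨z, hz, hze⟩ : ∃ z ∈ Z', (P : K) * z = ψ b P := by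
          have h2 := Subgroup.mem_subgroupOf.mp (QuotientGroup.eq.mp h1.symm)
          exact ⟨_, h2, mul_inv_cancel_left _ _⟩
        have h3 := hrψ b P
        rw [← hze, hrz _ _ hz, mul_eq_left] at h3
        rw [← hze, h3, mul_one]
      have hPZ : (P : K) ∈ Z' := hKH ⟨(P : K).2, (hH _).mpr fun a => congrArg Subtype.val (hPfix a)⟩
      have hker : ZR ≤ lamH.ker := fun z hz => by
        show lam z = 1
        have := hlamz 1 (z : K) hz (by simpa using z.2)
        rw [hlam1] at this
        convert this using 2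
        exact Subtype.ext (by simp)
      have h4 : lam P = 1 := hker (show P ∈ ZR from hPZ)
      have h5 : lam k ^ Nat.card A = 1 := by
        have := congrArg (QuotientGroup.lift ZR lamH hker) hP
        rw [map_prod] at this
        change lam P = ∏ a, lam ⟨ψ a k, hψR a k k.2⟩ at this
        rw [Finset.prod_congr rfl fun a _ => hlaminv a k, Finset.prod_const, Finset.card_univ,
          ← Nat.card_eq_fintype_card, h4] at this
        exact this.symm
      have h6 : lam k ^ Nat.card R = 1 := by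
        show lamH k ^ Nat.card R = 1
        rw [← map_pow, pow_card_eq_one', map_one]
      have h7 : orderOf (lam k) ∣ 1 := by
        rw [← (hcop.coprime_dvd_right ((Subgroup.card_subgroup_dvd_card R).trans
          (Subgroup.card_subgroup_dvd_card K))).gcd_eq_one]
        exact Nat.dvd_gcd (orderOf_dvd_of_pow_eq_one h5) (orderOf_dvd_of_pow_eq_one h6)
      exact orderOf_eq_one_iff.mp (Nat.dvd_one.mp h7)
    have hformula : ∀ k : K, (φ₀ : K → ℂ) (un k) = if k ∈ R then (φ₀ : K → ℂ) 1 else 0 := by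
      intro k
      split_ifs with hk
      · rw [← hτφ, Representation.character, Representation.character, hlam ⟨k, hk⟩, hlamone,
          one_smul, map_one]
        rfl
      · exact hout k hk
    have hφinv : ∀ g : G, CT.conjFun K g (φ₀ : K → ℂ) = φ₀ := by
      intro g
      suffices hHinv : ∀ h ∈ H, CT.conjFun K h (φ₀ : K → ℂ) = φ₀ by
        rw [hkv g, CT.conjFun_mul, CT.conjFun_of_mem K (CT.isClassFunction_of_isIrr φ₀.2) (kk g).2,
          hHinv _ (hhv g)]
      intro h hh'
      funext x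
      have hx : x = un x * r x := (inv_mul_cancel_right x (r x)).symm
      show (φ₀ : K → ℂ) (cj h x) = _
      have hunh : un (cj h x) = cj h (un x) := by
        show cj h x * (r (cj h x))⁻¹ = cj h (x * (r x)⁻¹)
        rw [hrH h hh', map_mul, map_inv]
        congr 2
        exact Subtype.ext (by
          show _ = (MulAut.conjNormal h (r x) : K).1
          rw [MulAut.conjNormal_apply, hconjZ h _ (hrZ x)])
      have hR : cj h x ∈ R ↔ x ∈ R := by
        have hfix : ∀ y k', ⁅cj h y, cj h k'⁆ = ⁅y, k'⁆ := fun y k' => by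
          rw [← map_commutatorElement]
          exact Subtype.ext (by
            show (MulAut.conjNormal h ⁅y, k'⁆ : K).1 = _
            rw [MulAut.conjNormal_apply, hconjZ h _ (hdK y k')])
        exact ⟨fun hk y => hfix y x ▸ hk (cj h y), fun hk y => by
          rw [← (cj h).apply_symm_apply y, hfix]; exact hk _⟩
      have hval : ∀ k : K, (φ₀ : K → ℂ) k =
          LinearMap.trace ℂ _ (τ (r k)) / (φ₀ : K → ℂ) 1 * (φ₀ : K → ℂ) (un k) := by
        intro k
        obtain ⟨c, hc⟩ := hsc _ (hrZ k)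
        conv_lhs => rw [show k = r k * un k by
          show k = r k * (k * (r k)⁻¹)
          rw [(hsw (hrZ k) _).eq, inv_mul_cancel_right]]
        rw [← hτφ]
        simp only [Representation.character, map_mul, hc, map_one]
        rw [show (c • LinearMap.id : Module.End ℂ _) * τ (un k) = c • τ (un k) from
          LinearMap.ext fun v => rfl, map_smul, map_smul, show (1 : Module.End ℂ (Fin d → ℂ)) = LinearMap.id from rfl,
          smul_eq_mul, smul_eq_mul, mul_div_assoc, div_self, mul_one]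
        rw [LinearMap.trace_id, Nat.cast_ne_zero]
        exact Module.finrank_pos.ne'
      rw [hval, hval x, hrH h hh', hformula, hformula, if_congr hR rfl rfl]
    have hres := CT.restrict_eq_smul_of_invariant K χ.2 φ₀.2 hφχ hφinv
    set mm := classInner (fun x : K => (χ : G → ℂ) x) (φ₀ : K → ℂ)
    let J : Module.End ℂ (Fin n → ℂ) := ∑ k : K, ρ (un k : G)
    have htrJ : LinearMap.trace ℂ _ J = mm * (Nat.card R * (φ₀ : K → ℂ) 1) := by
      rw [map_sum]
      calc ∑ k : K, LinearMap.trace ℂ _ (ρ (un k : G))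
          = ∑ k : K, mm * (φ₀ : K → ℂ) (un k) := Finset.sum_congr rfl fun k _ => by
            have := congrFun hres (un k)
            rw [← hρχ] at this
            exact this
        _ = _ := by
          rw [← Finset.mul_sum, Finset.sum_congr rfl fun k _ => hformula k, Finset.sum_ite,
            Finset.sum_const_zero, add_zero, Finset.sum_const, nsmul_eq_mul,
            ← Fintype.card_subtype, ← Nat.card_eq_fintype_card]
    have hJ0 : J ≠ 0 := fun h0 => by
      rw [h0, map_zero] at htrJ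
      rcases mul_eq_zero.mp htrJ.symm with h | h
      · exact hφχ h
      · rcases mul_eq_zero.mp h with h' | h'
        · exact Nat.card_pos.ne' (Nat.cast_eq_zero.mp h')
        · exact CT.irr_one_ne_zero φ₀.2 h'
    let X : Submonoid G :=
      { carrier := {g | ρ g * J = J * ρ (σ g)}
        one_mem' := by simp
        mul_mem' := fun {a b} ha hb => by
          show ρ (a * b) * J = J * ρ (σ (a * b))
          rw [map_mul, mul_assoc, hb, ← mul_assoc, ha, map_mul, map_mul, mul_assoc] }
    have hXH : ∀ h ∈ H, h ∈ X := by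
      intro h hh'
      show ρ h * J = J * ρ (σ h)
      rw [show σ h = h by
        show sg h = h
        have := hsg 1 h hh'
        rwa [hsz 1 (one_mem _), Subgroup.coe_one, one_mul] at this]
      show ρ h * ∑ k : K, ρ (un k : G) = (∑ k : K, ρ (un k : G)) * ρ h
      rw [Finset.mul_sum, Finset.sum_mul]
      refine Fintype.sum_equiv (cj h).toEquiv _ _ fun k => ?_
      rw [← map_mul, ← map_mul]
      congr 1
      show h * (k * (r k)⁻¹ : K).1 = (cj h k * (r (cj h k))⁻¹ : K).1 * h
      rw [hrH h hh', Subgroup.coe_mul, Subgroup.coe_mul]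
      show h * ((k : G) * _) = (MulAut.conjNormal h k : K).1 * _ * h
      rw [MulAut.conjNormal_apply]
      have hz : h * (((r k)⁻¹ : K) : G) = (((r k)⁻¹ : K) : G) * h :=
        Subgroup.mem_center_iff.mp (hZc (show (((r k)⁻¹ : K) : G) ∈ Z from inv_mem (hrZ k))) h
      rw [mul_assoc _ _ h, ← hz]
      group
    have hXu : ∀ y : K, (un y : G) ∈ X := by
      intro y
      set w := un y with hw
      have hrw : r w = 1 := by
        show r (y * (r y)⁻¹) = 1
        rw [hrz _ _ (inv_mem (hrZ y)), mul_inv_cancel]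
      have hσw : σ (w : G) = (w⁻¹ : K).1 := by
        show sg (w : G) = _
        have := hsg w 1 (one_mem _)
        rw [mul_one, mul_one] at this
        rw [this]
        show (w⁻¹ * r w * r w : K).1 = _
        rw [hrw, mul_one, mul_one]
      have e : ρ (w : G) * J * ρ (w : G) = J := by
        show ρ (w : G) * (∑ k : K, ρ (un k : G)) * ρ (w : G) = _
        rw [Finset.mul_sum, Finset.sum_mul]
        refine Fintype.sum_equiv ((Equiv.mulLeft w).trans (Equiv.mulRight w)) _ _ fun k => ?_
        rw [← map_mul, ← map_mul, ← Subgroup.coe_mul, ← Subgroup.coe_mul]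
        congr 2
        show w * (k * (r k)⁻¹) * w = w * k * w * (r (w * k * w))⁻¹
        have hrr : r (w * k * w) = r k := by
          rw [hrmul, hrmul, hrw, one_mul, mul_one]
          clear_value w
          rw [comm_mul_left hcen w k w, show ⁅w, w⁆ = 1 by simp, one_mul,
            ← commutatorElement_inv w k, inv_pow, mul_inv_cancel_right]
        rw [hrr]
        clear_value w
        rw [mul_assoc w (k * (r k)⁻¹) w, mul_assoc k, (hsw (inv_mem (hrZ k)) w).eq]
        simp only [mul_assoc]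
      show ρ (w : G) * J = J * ρ (σ (w : G))
      rw [hσw]
      conv_rhs => rw [← e]
      rw [mul_assoc (ρ (w : G) * J), ← map_mul, ← Subgroup.coe_mul, mul_inv_cancel,
        Subgroup.coe_one, map_one, mul_one]
    have hX : ∀ g, g ∈ X := by
      intro g
      rw [hkv g, show (kk g : G) = ((un (kk g) : K) : G) * ((r (kk g) : K) : G) by
        rw [← Subgroup.coe_mul]; exact congrArg Subtype.val (inv_mul_cancel_right _ _).symm]
      exact mul_mem (mul_mem (hXu _) (hXH _ (hZH (hrZ _)))) (hXH _ (hhv g))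
    have hinj : Function.Injective J := by
      rw [← LinearMap.ker_eq_bot]
      refine (((CT.isIrreducible_iff ρ).mp hρ).2 (LinearMap.ker J) fun g v hv0 => ?_).resolve_right
        fun h => hJ0 (LinearMap.ker_eq_top.mp h)
      rw [LinearMap.mem_ker] at hv0 ⊢
      have h1 : ρ (σ g) * J = J * ρ g := by
        have := hX (σ g)
        change ρ (σ g) * J = J * ρ (σ (σ g)) at this
        rwa [show σ (σ g) = g from hsgsg g] at this
      have := LinearMap.congr_fun h1 v
      rw [Module.End.mul_apply, Module.End.mul_apply, hv0, map_zero] at this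
      exact this.symm
    have hU : IsUnit J := (Module.End.isUnit_iff J).mpr ⟨hinj, LinearMap.injective_iff_surjective.mp hinj⟩
    obtain ⟨U, hUJ⟩ := hU
    intro g
    have h1 : ρ g * J = J * ρ (σ g) := hX g
    rw [← hρχ]
    show LinearMap.trace ℂ _ (ρ (σ g)) = LinearMap.trace ℂ _ (ρ g)
    have h2 : ρ (σ g) = (↑U⁻¹ : Module.End ℂ (Fin n → ℂ)) * ρ g * (↑U : Module.End ℂ (Fin n → ℂ)) := by
      rw [mul_assoc, hUJ, h1, ← mul_assoc, ← hUJ, Units.inv_mul, one_mul]
    rw [h2, LinearMap.trace_mul_cycle, Units.mul_inv, one_mul]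
  refine ⟨fun χ hχ => ?_, fun χ χ' hχ hχ' β m m' h hm h' hm' => ?_, fun β => ?_⟩
  · refine ⟨Φ ⟨χ, key χ hχ⟩, ?_, ?_⟩
    · obtain ⟨m, hm⟩ := CT.classInner_character_nat
        (CT.isCharacter_restrict H (CT.isCharacter_of_isIrr χ.2)) (CT.isCharacter_of_isIrr (Φ ⟨χ, key χ hχ⟩).2)
      exact ⟨m, hm, Nat.not_even_iff_odd.mp fun he =>
        ((hΦ ⟨χ, key χ hχ⟩ _ m hm).1.mpr rfl) (even_iff_two_dvd.mp he)⟩
    · rintro β ⟨m, hm, hm'⟩
      exact (hΦ ⟨χ, key χ hχ⟩ β m hm).1.mp fun he =>
        (Nat.not_even_iff_odd.mpr hm') (even_iff_two_dvd.mpr he)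
  · have e1 := (hΦ ⟨χ, key χ hχ⟩ β m h).1.mp fun he =>
      (Nat.not_even_iff_odd.mpr hm) (even_iff_two_dvd.mpr he)
    have e2 := (hΦ ⟨χ', key χ' hχ'⟩ β m' h').1.mp fun he =>
      (Nat.not_even_iff_odd.mpr hm') (even_iff_two_dvd.mpr he)
    exact congrArg Subtype.val (Φ.injective (e1.symm.trans e2))
  · set χ := Φ.symm β with hχdef
    obtain ⟨m, hm⟩ := CT.classInner_character_nat
      (CT.isCharacter_restrict H (CT.isCharacter_of_isIrr χ.1.2)) (CT.isCharacter_of_isIrr β.2)
    have hm2 : ¬ 2 ∣ m := (hΦ χ β m hm).1.mpr (by rw [hχdef, Equiv.apply_symm_apply])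
    refine ⟨χ.1, fun a g => ?_, m, hm, Nat.not_even_iff_odd.mp fun he => hm2 (even_iff_two_dvd.mp he)⟩
    -- the twist of `χ` is fixed by the inversion and has the same image
    have hcomm : ∀ (b : B) g, φ a ((b : MulAut G) g) = (b : MulAut G) (φ a g) := by
      intro b g
      obtain ⟨n, hn⟩ := b.2
      rw [← hn]
      refine zpow_comm_of_comm (f := φ a) (fun x => ?_) n g
      show φ a (sg x) = sg (φ a x)
      have ex := hkv x
      rw [show φ a x = ((ψ a (kk x) : K) : G) * hv x by
        conv_lhs => rw [ex, map_mul, (hH _).mp (hhv x) a]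
        rfl, hsg _ _ (hhv x)]
      show φ a ((s (kk x) : G) * hv x) = _
      rw [map_mul, (hH _).mp (hhv x) a]
      congr 1
      show ((ψ a (s (kk x)) : K) : G) = _
      congr 1
      show ψ a ((kk x)⁻¹ * r (kk x) * r (kk x)) = _
      rw [map_mul, map_mul, map_inv,
        show ψ a (r (kk x)) = r (kk x) from Subtype.ext ((hH _).mp (hZH (hrZ (kk x))) a)]
      show _ = (ψ a (kk x))⁻¹ * r (ψ a (kk x)) * r (ψ a (kk x))
      rw [hrψ]
    let χa : IrrCharacter G := compIrr (φ a) χ.1
    have hχa : Inv B.subtype (χa : G → ℂ) := fun b g => by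
      rw [compIrr_apply, compIrr_apply]
      show (χ.1 : G → ℂ) (φ a ((b : MulAut G) g)) = _
      rw [hcomm b g]
      exact χ.2 b (φ a g)
    have hm' : classInner (fun h : H => (χa : G → ℂ) h) (β : H → ℂ) = (m : ℂ) := by
      rw [← hm]
      congr 1
      funext h
      rw [compIrr_apply, (hH _).mp h.2 a]
    have e1 := (hΦ ⟨χa, hχa⟩ β m hm').1.mp hm2
    have e2 := (hΦ χ β m hm).1.mp hm2
    have := congrArg Subtype.val (Φ.injective (e1.symm.trans e2))
    have := congrFun (congrArg Subtype.val this) g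
    rwa [compIrr_apply] at this
where
  zpow_smul_fix {G : Type u} [Group G] {σ : MulAut G} {g : G} (h : σ g = g) : ∀ n : ℤ, (σ ^ n) g = g := by
    intro n
    induction n using Int.induction_on with
    | zero => simp
    | succ i ih => rw [zpow_add_one, MulAut.mul_apply, h, ih]
    | pred i ih => rw [zpow_sub_one, MulAut.mul_apply, show σ⁻¹ g = g by rw [MulAut.inv_apply]; exact (MulEquiv.symm_apply_eq σ).mpr h.symm, ih]
  inv_zpow_of_inv {G : Type u} [Group G] {σ : MulAut G} (f : G → ℂ) (h : ∀ g, f (σ g) = f g) :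
      ∀ (n : ℤ) (g : G), f ((σ ^ n) g) = f g := by
    intro n
    induction n using Int.induction_on with
    | zero => simp
    | succ i ih => intro g; rw [zpow_add_one, MulAut.mul_apply, ih, h]
    | pred i ih => intro g; rw [zpow_sub_one, MulAut.mul_apply, ih]; conv_rhs => rw [← MulAut.apply_inv_self G σ g, h]
  zpow_comm_of_comm {G : Type u} [Group G] {σ : MulAut G} {f : MulAut G} (h : ∀ g, f (σ g) = σ (f g)) :
      ∀ (n : ℤ) (g : G), f ((σ ^ n) g) = (σ ^ n) (f g) := by
    intro n g
    have : Commute f σ := MulEquiv.ext h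
    exact MulEquiv.congr_fun (this.zpow_right n).eq g

end Cfsg.Agent.OddCorr
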