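import Cfsg.Agent.Lib.CT.CliffordLe
import Cfsg.Agent.Lib.Glauberman.Solvable

/-!
# The Clifford correspondence between subgroups of an ambient group
-/

set_option autoImplicit false
set_option linter.all false

namespace Cfsg.Agent.OddCorr

open Cfsg.Agent Cfsg.Agent.CT

universe u

/-- Restriction of a function to a smaller subgroup. -/
def res {Γ : Type u} [Group Γ] {P T : Subgroup Γ} (h : P ≤ T) (f : T → ℂ) : P → ℂ :=
  fun x => f ⟨x, h x.2⟩

theorem isCharacter_res {Γ : Type u} [Group Γ] {P T : Subgroup Γ} (h : P ≤ T) {f : T → ℂ}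
    (hf : IsCharacter T f) : IsCharacter P (res h f) :=
  isCharacter_comp (Subgroup.inclusion h) hf

theorem cliff {Γ : Type u} [Group Γ] [Fintype Γ] (G L T : Subgroup Γ) [Fintype G] [Fintype L]
    [Fintype T] (hLG : L ≤ G) (hLn : ∀ g ∈ G, ∀ l ∈ L, g * l * g⁻¹ ∈ L) (θ : IrrCharacter L)
    (hT : ∀ g, g ∈ T ↔ g ∈ G ∧ ∀ l l' : L, (l' : Γ) = g * l * g⁻¹ → (θ : L → ℂ) l' = (θ : L → ℂ) l)
    (hTG : T ≤ G) (hLT : L ≤ T) :
    ∃ e : {χ : IrrCharacter G // classInner (res hLG (χ : G → ℂ)) (θ : L → ℂ) ≠ 0} ≃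
        {ξ : IrrCharacter T // classInner (res hLT (ξ : T → ℂ)) (θ : L → ℂ) ≠ 0},
      (∀ χ ξ, classInner (res hTG (χ.1 : G → ℂ)) (ξ.1 : T → ℂ) ≠ 0 ↔ e χ = ξ) ∧
      (∀ χ, ∀ Φ : G → ℂ, IsCharacter G Φ →
        classInner Φ (χ.1 : G → ℂ) = classInner (res hTG Φ) ((e χ).1 : T → ℂ)) ∧
      ∀ χ, ∀ (P : Subgroup Γ) [Fintype P] (hLP : L ≤ P) (hPT : P ≤ T) (η : IrrCharacter P),
        classInner (res hLP (η : P → ℂ)) (θ : L → ℂ) ≠ 0 →
        classInner (res (hPT.trans hTG) (χ.1 : G → ℂ)) (η : P → ℂ) =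
          classInner (res hPT ((e χ).1 : T → ℂ)) (η : P → ℂ) := by
  classical
  let N : Subgroup G := L.subgroupOf G
  haveI : N.Normal := ⟨fun n hn g => hLn _ g.2 _ hn⟩
  haveI := Fintype.ofFinite N
  let eN : N ≃* L := Subgroup.subgroupOfEquivOfLe hLG
  let φ : IrrCharacter N := Glauberman.compIrr eN θ
  let T' : Subgroup G := T.subgroupOf G
  haveI := Fintype.ofFinite T'
  let eT : T' ≃* T := Subgroup.subgroupOfEquivOfLe hTG
  have hI : T' = inertia N (φ : N → ℂ) := by
    ext g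
    rw [mem_inertia, Subgroup.mem_subgroupOf, hT]
    constructor
    · rintro ⟨-, h⟩
      funext n
      exact h (eN n) (eN ⟨g * n * g⁻¹, hLn _ g.2 _ n.2⟩) rfl
    · intro h
      refine ⟨g.2, fun l l' he => ?_⟩
      have h1 := congrFun h (eN.symm l)
      simp only [conjFun, φ, Glauberman.compIrr_apply, MulEquiv.apply_symm_apply] at h1
      rw [← h1]
      exact congrArg (θ : L → ℂ) (Subtype.ext he)
  have hNT : N ≤ T' := fun n hn => hLT hn
  have hN : ∀ χ : G → ℂ, classInner (fun n : N => χ n) (φ : N → ℂ) =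
      classInner (res hLG χ) (θ : L → ℂ) := fun χ =>
    Glauberman.classInner_comp_equiv eN (res hLG χ) (θ : L → ℂ)
  have hTL : ∀ ξ : IrrCharacter T, classInner (resTo N T' hNT (Glauberman.compIrr eT ξ : T' → ℂ)) (φ : N → ℂ) =
      classInner (res hLT (ξ : T → ℂ)) (θ : L → ℂ) := fun ξ =>
    Glauberman.classInner_comp_equiv eN (res hLT (ξ : T → ℂ)) (θ : L → ℂ)
  have hTT : ∀ (Φ : G → ℂ) (ξ : IrrCharacter T), classInner (fun t : T' => Φ t) (Glauberman.compIrr eT ξ : T' → ℂ) =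
      classInner (res hTG Φ) (ξ : T → ℂ) := fun Φ ξ =>
    Glauberman.classInner_comp_equiv eT (res hTG Φ) (ξ : T → ℂ)
  -- induction
  let F : {ξ : IrrCharacter T // classInner (res hLT (ξ : T → ℂ)) (θ : L → ℂ) ≠ 0} →
      {χ : IrrCharacter G // classInner (res hLG (χ : G → ℂ)) (θ : L → ℂ) ≠ 0} := fun ξ =>
    have h := isIrr_indFun_of_over_le N φ.2 T' hI.ge hNT (Glauberman.compIrr eT ξ.1).2
      (by rw [hTL]; exact ξ.2)
    ⟨⟨_, h.1⟩, by rw [← hN]; show classInner (fun n : N => indFun T' _ n) _ ≠ 0; rw [h.2, hTL]; exact ξ.2⟩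
  have hFrob : ∀ ξ Φ, IsCharacter G Φ →
      classInner Φ ((F ξ).1 : G → ℂ) = classInner (res hTG Φ) (ξ.1 : T → ℂ) := fun ξ Φ hΦ => by
    rw [← hTT]
    exact frobenius_reciprocity' T' (isClassFunction_of_isCharacter hΦ) _
  have hinj : Function.Injective F := fun a b h => by
    have := indFun_injective_of_over_le N φ.2 T' hI.ge hNT
      (ψ := Glauberman.compIrr eT a.1) (ψ' := Glauberman.compIrr eT b.1)
      (by rw [hTL]; exact a.2) (by rw [hTL]; exact b.2) (congrArg Subtype.val (congrArg Subtype.val h))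
    refine Subtype.ext (Subtype.ext (funext fun t => ?_))
    have := congrFun (congrArg Subtype.val this) (eT.symm t)
    simpa [Glauberman.compIrr_apply] using this
  have hsurj : Function.Surjective F := fun χ => by
    obtain ⟨ψ, hψ, hover⟩ := exists_correspondent_le N φ.2 T' hI.ge hNT χ.1.2 (by rw [hN]; exact χ.2)
    let ξ : IrrCharacter T := Glauberman.compIrr eT.symm ψ
    have e : Glauberman.compIrr eT ξ = ψ := Subtype.ext (funext fun t => by
      simp [ξ, Glauberman.compIrr_apply])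
    refine ⟨⟨ξ, by rw [← hTL, e]; exact hover⟩, Subtype.ext (Subtype.ext ?_)⟩
    show indFun T' (Glauberman.compIrr eT ξ : T' → ℂ) = χ.1
    rw [e, hψ]
  let e := (Equiv.ofBijective F ⟨hinj, hsurj⟩).symm
  have he : ∀ χ, F (e χ) = χ := fun χ => (Equiv.ofBijective F ⟨hinj, hsurj⟩).apply_symm_apply χ
  have hone : ∀ χ ξ, classInner (res hTG (χ.1 : G → ℂ)) (ξ.1 : T → ℂ) = if e χ = ξ then 1 else 0 := by
    intro χ ξ
    rw [← hFrob ξ _ (isCharacter_of_isIrr χ.1.2)]
    by_cases h : e χ = ξ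
    · rw [if_pos h, ← h, he, irr_inner_self χ.1.2]
    · rw [if_neg h, irr_inner_of_ne χ.1.2 (F ξ).1.2]
      intro hh
      exact h (hinj ((he χ).trans (Subtype.ext (Subtype.ext hh))))
  refine ⟨e, fun χ ξ => ?_, fun χ Φ hΦ => ?_, ?_⟩
  · rw [hone]; split_ifs with h <;> simp [h]
  · rw [← hFrob (e χ) Φ hΦ, he]
  · intro χ P _ hLP hPT η hη
    have hc := isCharacter_res hTG (isCharacter_of_isIrr χ.1.2)
    have hdec : res (hPT.trans hTG) (χ.1 : G → ℂ) =
        ∑ ζ : IrrCharacter T, (mult (res hTG (χ.1 : G → ℂ)) ζ : ℂ) • res hPT (ζ : T → ℂ) := by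
      funext x
      have := congrFun (character_eq_sum hc) ⟨x, hPT x.2⟩
      simpa [res, Finset.sum_apply] using this
    rw [hdec, classInner_sum_left, Finset.sum_eq_single (e χ).1]
    · rw [classInner_smul_left, ← mult_spec hc (isCharacter_of_isIrr (e χ).1.2), hone, if_pos rfl,
        one_mul]
    · intro ζ _ hne
      rw [classInner_smul_left]
      by_contra h0
      obtain ⟨h1, h2⟩ := mul_ne_zero_iff.mp h0
      -- such a constituent lies over the character
      let P' : Subgroup T := P.subgroupOf T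
      let L' : Subgroup P := L.subgroupOf P
      haveI := Fintype.ofFinite L'
      let eL : L' ≃* L := Subgroup.subgroupOfEquivOfLe hLP
      have h3 := classInner_eq_of_res_ne_zero (H := L') (isCharacter_res hPT (isCharacter_of_isIrr ζ.2))
        η.2 (isCharacter_comp eL.toMonoidHom (isCharacter_of_isIrr θ.2)) h2
        (by
          have := Glauberman.classInner_comp_equiv eL (res hLP (η : P → ℂ)) (θ : L → ℂ)
          exact fun h => hη (this.symm.trans h))
      have h4 : classInner (res hLT (ζ : T → ℂ)) (θ : L → ℂ) ≠ 0 := fun h =>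
        h3 ((Glauberman.classInner_comp_equiv eL (res hLT (ζ : T → ℂ)) (θ : L → ℂ)).trans h)
      have h5 := hone χ ⟨ζ, h4⟩
      rw [if_neg fun e' => hne (congrArg Subtype.val e').symm,
        mult_spec hc (isCharacter_of_isIrr ζ.2)] at h5
      exact h1 h5
    · exact fun h => absurd (Finset.mem_univ _) h

end Cfsg.Agent.OddCorr
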