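import Cfsg.Agent.Lib.CT.CentralReduction

/-!
# The value-level correspondence behind the reduction of an invariant character to a central one
-/

set_option autoImplicit false
set_option linter.all false

namespace Cfsg.Agent.OddCorr

open Cfsg.Agent Cfsg.Agent.CT Cfsg.Agent.RelCount Cfsg.Agent.CentralReduction
open scoped Pointwise ComplexConjugate

universe u

variable {G : Type u} [Group G] [Finite G] (L : Subgroup G) [L.Normal] {d : ℕ}
  (τ : Representation ℂ L (Fin d → ℂ)) [hτ : τ.IsIrreducible]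

open Classical in
/-- **Characters over an invariant character correspond to characters over a central linear one.** -/
theorem exists_lift (hd : d ≠ 0)
    (hinv : ∀ g : G, Conj L g τ.character τ.character)
    (ζ : IrrCharacter (Zb L τ))
    (hζ : ∀ (z : Gam L τ) (hz : prG L τ z = 1),
      (theta L τ).character z * (ζ : Zb L τ → ℂ) ⟨qB L τ z, ⟨z, hz, rfl⟩⟩ = (d : ℂ))
    (M : Subgroup G) (hLM : L ≤ M) :
    ∃ e : {β : IrrCharacter (barOf L τ M) //
        Ov (Subgroup.inclusion (zb_le_barOf L τ M)) (ζ : Zb L τ → ℂ) (β : _ → ℂ)} ≃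
      {χ : IrrCharacter M // Ov (Subgroup.inclusion hLM) τ.character (χ : M → ℂ)},
      ∀ (β) (x : Gam L τ) (hx : prG L τ x ∈ M),
        ((e β).1 : M → ℂ) ⟨prG L τ x, hx⟩ =
          (β.1 : barOf L τ M → ℂ) ⟨qB L τ x, ⟨x, hx, rfl⟩⟩ * (theta L τ).character x := by
  haveI := ((isIrreducible_iff τ).mp hτ).1
  let B := M.comap (prG L τ)
  let πM : B →* M := (prG L τ).subgroupComap M
  have hπM : Function.Surjective πM := fun m => by
    obtain ⟨x, hx⟩ := prG_surjective L τ hinv (m : G)
    exact ⟨⟨x, Subgroup.mem_comap.mpr (hx ▸ m.2)⟩, Subtype.ext hx⟩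
  let qM : B →* barOf L τ M := (qB L τ).subgroupMap B
  have hqM : Function.Surjective qM := (qB L τ).subgroupMap_surjective B
  have hjB : ∀ l : L, emb L τ l ∈ B := fun l => hLM l.2
  let jB : L →* B := (emb L τ).codRestrict B hjB
  have hjinj : Function.Injective jB := fun a b h => emb_injective L τ (congrArg Subtype.val h)
  let eL : L ≃* jB.range := MonoidHom.ofInjective hjinj
  haveI hNn : jB.range.Normal := by
    refine ⟨?_⟩
    rintro _ ⟨l, rfl⟩ b
    obtain ⟨l', hl'⟩ := (emb_range_normal L τ).conj_mem (emb L τ l) ⟨l, rfl⟩ (b : Gam L τ)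
    exact ⟨l', Subtype.ext hl'⟩
  haveI := Fintype.ofFinite B
  haveI := Fintype.ofFinite jB.range
  haveI := Fintype.ofFinite L
  let Θ : B → ℂ := fun b => (theta L τ).character (b : Gam L τ)
  have hΘc : IsCharacter B Θ := isCharacter_comp B.subtype (isCharacter_character (theta L τ))
  have hΘj : ∀ l : L, Θ (jB l) = τ.character l := fun l => theta_emb L τ l
  have hτirr : IsIrrCharacter L τ.character := isIrrCharacter_character τ
  have hΘ : IsIrrCharacter B Θ := Glue.isIrr_of_res jB hΘc (by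
    rw [show (fun l => Θ (jB l)) = τ.character from funext hΘj]; exact hτirr)
  let θ : jB.range → ℂ := fun n => Θ n
  have hθ : IsIrrCharacter jB.range θ := by
    have h := isIrrCharacter_comp eL.symm.toMonoidHom eL.symm.surjective hτirr
    rwa [show (fun n => τ.character (eL.symm.toMonoidHom n)) = θ from funext fun n => by
      obtain ⟨l, rfl⟩ := eL.surjective n
      show τ.character (eL.symm (eL l)) = θ (eL l)
      rw [MulEquiv.symm_apply_apply]
      exact (hΘj l).symm] at h
  have hθinv : ∀ b : B, conjFun jB.range b θ = θ := fun b => funext fun n => by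
    show Θ (b * n * b⁻¹) = Θ n
    rw [isClassFunction_mul_comm (isClassFunction_of_isIrr hΘ), inv_mul_cancel_left]
  have hone : ((fun _ : jB.range => (1 : ℂ)) * θ) = θ := funext fun n => one_mul _
  have hbij := GallagherExt.bijOn_mul_ext jB.range (φ := fun _ : jB.range => (1 : ℂ)) (θ := θ)
    isIrrCharacter_one (fun g => rfl) hθinv (hone.symm ▸ hθ) hΘ (fun n => rfl)
  -- lying over, in the intermediate group
  have hset2 : ∀ χ : IrrCharacter M, Ov (Subgroup.inclusion hLM) τ.character (χ : M → ℂ) ↔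
      classInner (indFun jB.range θ) (fun b => (χ : M → ℂ) (πM b)) ≠ 0 := by
    intro χ
    rw [ov_def, frobenius_reciprocity jB.range θ (isClassFunction_of_isIrr
      (isIrrCharacter_comp πM hπM χ.2)), classInner_comm_of_char (isCharacter_of_isIrr hθ)
      (isCharacter_restrict jB.range (isCharacter_comp πM (isCharacter_of_isIrr χ.2)))]
    suffices h : classInner (fun l : L => (χ : M → ℂ) (Subgroup.inclusion hLM l)) τ.character =
        classInner (fun n : jB.range => (χ : M → ℂ) (πM n)) θ by rw [h]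
    simp only [classInner]
    rw [Nat.card_congr eL.toEquiv]
    congr 1
    refine Fintype.sum_equiv eL.toEquiv _ _ fun l => ?_
    show _ = (χ : M → ℂ) (πM (jB l)) * conj (Θ (jB l))
    rw [hΘj]
    rfl
  have hset1 : ∀ β : IrrCharacter (barOf L τ M),
      classInner (indFun jB.range fun _ => (1 : ℂ)) (fun b => (β : barOf L τ M → ℂ) (qM b)) ≠ 0 := by
    intro β
    rw [frobenius_reciprocity jB.range _ (isClassFunction_of_isIrr (isIrrCharacter_comp qM hqM β.2))]
    have e : (fun n : jB.range => (β : barOf L τ M → ℂ) (qM n)) =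
        (β : barOf L τ M → ℂ) 1 • fun _ : jB.range => (1 : ℂ) := funext fun n => by
      obtain ⟨l, hl⟩ := n.2
      rw [Pi.smul_apply, smul_eq_mul, mul_one, ← hl]
      exact congrArg (β : barOf L τ M → ℂ)
        (Subtype.ext ((QuotientGroup.eq_one_iff _).mpr ⟨l, rfl⟩))
    rw [e, classInner_smul_right, irr_inner_self isIrrCharacter_one, mul_one]
    simpa using irr_one_ne_zero β.2
  have hcen : ∀ z, Subgroup.inclusion (zb_le_barOf L τ M) z ∈ Subgroup.center (barOf L τ M) := fun z =>
    Subgroup.mem_center_iff.mpr fun b => Subtype.ext (Subgroup.mem_center_iff.mp (zb_center L τ z.2) b)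
  have hΘ1 : Θ 1 = (d : ℂ) := by simp [Θ, Representation.char_one]
  have hker : ∀ (β : IrrCharacter (barOf L τ M)), Ov (Subgroup.inclusion (zb_le_barOf L τ M)) (ζ : _ → ℂ) (β : _ → ℂ) →
      ∀ z ∈ πM.ker, ((fun b => (β : barOf L τ M → ℂ) (qM b)) * Θ) z =
        ((fun b => (β : barOf L τ M → ℂ) (qM b)) * Θ) 1 := by
    intro β hβ z hz
    have hz' : prG L τ (z : Gam L τ) = 1 := congrArg Subtype.val (MonoidHom.mem_ker.mp hz)
    simp only [Pi.mul_apply, map_one, hΘ1]
    have e := (SylowKernel.ov_central _ hcen (Subgroup.inclusion_injective _) β.2 ζ).mp hβ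
      ⟨qB L τ (z : Gam L τ), ⟨(z : Gam L τ), hz', rfl⟩⟩
    rw [show qM z = Subgroup.inclusion (zb_le_barOf L τ M) ⟨qB L τ (z : Gam L τ), ⟨(z : Gam L τ), hz', rfl⟩⟩
      from rfl, e, mul_assoc, mul_comm _ (Θ z)]
    exact congrArg ((β : barOf L τ M → ℂ) 1 * ·) (hζ _ hz')
  let F : {β : IrrCharacter (barOf L τ M) //
      Ov (Subgroup.inclusion (zb_le_barOf L τ M)) (ζ : _ → ℂ) (β : _ → ℂ)} →
      {χ : IrrCharacter M // Ov (Subgroup.inclusion hLM) τ.character (χ : M → ℂ)} :=
    fun β =>
      have hm := hbij.mapsTo (show (fun b => (β.1 : barOf L τ M → ℂ) (qM b)) ∈ _ from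
        ⟨isIrrCharacter_comp qM hqM β.1.2, hset1 β.1⟩)
      let χ := (exists_descend πM hπM hm.1 (hker β.1 β.2)).choose
      have hχ : ∀ b, (χ : M → ℂ) (πM b) = (β.1 : barOf L τ M → ℂ) (qM b) * Θ b :=
        (exists_descend πM hπM hm.1 (hker β.1 β.2)).choose_spec
      ⟨χ, (hset2 χ).mpr (by
          rw [show (fun b => (χ : M → ℂ) (πM b)) = (fun b => (β.1 : barOf L τ M → ℂ) (qM b)) * Θ from funext hχ]
          have h2 := hm.2
          rwa [hone] at h2)⟩
  have hF : ∀ β b, ((F β).1 : M → ℂ) (πM b) = (β.1 : barOf L τ M → ℂ) (qM b) * Θ b := fun β =>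
    (exists_descend πM hπM (hbij.mapsTo (show (fun b => (β.1 : barOf L τ M → ℂ) (qM b)) ∈ _ from
      ⟨isIrrCharacter_comp qM hqM β.1.2, hset1 β.1⟩)).1 (hker β.1 β.2)).choose_spec
  refine ⟨Equiv.ofBijective F ⟨fun a b h => ?_, fun χ => ?_⟩, fun β x hx => hF β ⟨x, hx⟩⟩
  · have e := hbij.injOn
      (show (fun x => (a.1 : barOf L τ M → ℂ) (qM x)) ∈ _ from ⟨isIrrCharacter_comp qM hqM a.1.2, hset1 a.1⟩)
      (show (fun x => (b.1 : barOf L τ M → ℂ) (qM x)) ∈ _ from ⟨isIrrCharacter_comp qM hqM b.1.2, hset1 b.1⟩)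
      (funext fun x => by
        show _ * Θ x = _ * Θ x
        rw [← hF a x, ← hF b x, h])
    refine Subtype.ext (Subtype.ext (funext fun y => ?_))
    obtain ⟨x, rfl⟩ := hqM y
    exact congrFun e x
  · obtain ⟨β, ⟨hβ, hβ1⟩, hβχ⟩ := hbij.surjOn (show (fun b => (χ.1 : M → ℂ) (πM b)) ∈ _ from
      ⟨isIrrCharacter_comp πM hπM χ.1.2, by rw [hone]; exact (hset2 χ.1).mp χ.2⟩)
    have hβker : ∀ n ∈ qM.ker, β n = β 1 := by
      intro n hn
      have hn' : n ∈ jB.range := by
        obtain ⟨l, hl⟩ := (QuotientGroup.eq_one_iff _).mp (congrArg Subtype.val (MonoidHom.mem_ker.mp hn))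
        exact ⟨l, Subtype.ext hl⟩
      rw [frobenius_reciprocity jB.range _ (isClassFunction_of_isIrr hβ),
        classInner_comm_of_char (isCharacter_of_isIrr isIrrCharacter_one)
          (isCharacter_restrict jB.range (isCharacter_of_isIrr hβ))] at hβ1
      have h := restrict_eq_smul_of_invariant jB.range hβ isIrrCharacter_one hβ1 (fun g => rfl)
      exact (congrFun h ⟨n, hn'⟩).trans (congrFun h 1).symm
    obtain ⟨β0, hβ0⟩ := exists_descend qM hqM hβ hβker
    have hval : ∀ b, (χ.1 : M → ℂ) (πM b) = (β0 : barOf L τ M → ℂ) (qM b) * Θ b := fun b => by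
      rw [hβ0]; exact (congrFun hβχ b).symm
    refine ⟨⟨β0, ?_⟩, ?_⟩
    · refine (SylowKernel.ov_central _ hcen (Subgroup.inclusion_injective _) β0.2 ζ).mpr ?_
      rintro ⟨_, z, hz, rfl⟩
      let zB : B := ⟨z, zb_le_B z hz⟩
      have h1 := hval zB
      rw [show πM zB = 1 from Subtype.ext hz] at h1
      have h2 := hval 1
      rw [map_one, map_one, hΘ1] at h2
      have h3 := hζ z hz
      rw [h2] at h1
      show (β0 : barOf L τ M → ℂ) (qM zB) = _
      have hΘz : Θ zB ≠ 0 := fun h0 => by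
        have hd0 : (d : ℂ) ≠ 0 := Nat.cast_ne_zero.mpr hd
        exact hd0 (by rw [← h3, show (theta L τ).character z = Θ zB from rfl, h0, zero_mul])
      apply mul_right_cancel₀ hΘz
      rw [← h1, mul_assoc, mul_comm _ (Θ zB)]
      exact congrArg ((β0 : barOf L τ M → ℂ) 1 * ·) h3.symm
    · refine Subtype.ext (Subtype.ext (funext fun m => ?_))
      obtain ⟨b, rfl⟩ := hπM m
      rw [hF]
      exact (hval b).symm
where
  zb_le_B (z : Gam L τ) (hz : prG L τ z = 1) : z ∈ M.comap (prG L τ) := by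
    rw [Subgroup.mem_comap, hz]; exact M.one_mem


end Cfsg.Agent.OddCorr
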