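import Cfsg.Agent.Lib.OddCorr.Triple
import Cfsg.Agent.Lib.OddCorr.Cliff
import Cfsg.Agent.Lib.Glauberman.Constituent

/-!
# The correspondence across an abelian section for odd order and coprime operators
-/

set_option autoImplicit false
set_option linter.all false

namespace Cfsg.Agent.OddCorr

open Cfsg.Agent Cfsg.Agent.CT
open scoped commutatorElement

universe u

variable {Γ : Type u} [Group Γ] [Fintype Γ]

/-- Invariance of a function on a subgroup under conjugation by `S`. -/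
def SInv (S : Subgroup Γ) {X : Subgroup Γ} (f : X → ℂ) : Prop :=
  ∀ s ∈ S, ∀ g g' : X, (g' : Γ) = s * g * s⁻¹ → f g' = f g

theorem mem_normalizer_of_conj (L : Subgroup Γ) (X : Subgroup Γ)
    (h : ∀ x ∈ X, ∀ l ∈ L, x * l * x⁻¹ ∈ L) : X ≤ Subgroup.normalizer (L : Set Γ) := fun x hx =>
  Subgroup.mem_normalizer_iff.mpr fun l => ⟨h x hx l, fun hl => by
    have := h x⁻¹ (inv_mem hx) _ hl
    simpa [mul_assoc] using this⟩

set_option maxHeartbeats 1600000 in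
theorem triple_sub (L T S K H : Subgroup Γ) [Fintype L] [Fintype T] [Fintype H]
    (hodd : Odd (Nat.card T)) (hsolv : Group.IsSolvable T)
    (hcop : (Nat.card T).Coprime (Nat.card S)) (hnorm : ∀ s ∈ S, ∀ g ∈ T, s * g * s⁻¹ ∈ T)
    (hLK : L ≤ K) (hKT : K ≤ T) (hLnT : ∀ g ∈ T, ∀ l ∈ L, g * l * g⁻¹ ∈ L)
    (hLnS : ∀ s ∈ S, ∀ l ∈ L, s * l * s⁻¹ ∈ L)
    (hH : H = L ⊔ (T ⊓ Subgroup.centralizer (S : Set Γ))) (hHT : H ≤ T) (hLT : L ≤ T) (hLH : L ≤ H)
    (hKn : ∀ g ∈ T, ∀ k ∈ K, g * k * g⁻¹ ∈ K) (hKS : ∀ s ∈ S, ∀ k ∈ K, s * k * s⁻¹ ∈ K)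
    (hab : ∀ a ∈ K, ∀ b ∈ K, ⁅a, b⁆ ∈ L) (hKH : K ⊓ H ≤ L) (hTKH : K ⊔ H = T)
    (θ : IrrCharacter L) (hθT : SInv T (θ : L → ℂ)) (hθS : SInv S (θ : L → ℂ)) :
    (∀ χ : IrrCharacter T, SInv S (χ : T → ℂ) → classInner (res hLT (χ : T → ℂ)) (θ : L → ℂ) ≠ 0 →
        ∃! ψ : IrrCharacter H, ∃ m : ℕ,
          classInner (res hHT (χ : T → ℂ)) (ψ : H → ℂ) = (m : ℂ) ∧ Odd m) ∧
    (∀ χ χ' : IrrCharacter T,
        SInv S (χ : T → ℂ) → classInner (res hLT (χ : T → ℂ)) (θ : L → ℂ) ≠ 0 →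
        SInv S (χ' : T → ℂ) → classInner (res hLT (χ' : T → ℂ)) (θ : L → ℂ) ≠ 0 →
        ∀ ψ : IrrCharacter H, ∀ m m' : ℕ,
          classInner (res hHT (χ : T → ℂ)) (ψ : H → ℂ) = (m : ℂ) → Odd m →
          classInner (res hHT (χ' : T → ℂ)) (ψ : H → ℂ) = (m' : ℂ) → Odd m' → χ = χ') ∧
    ∀ ψ : IrrCharacter H, classInner (res hLH (ψ : H → ℂ)) (θ : L → ℂ) ≠ 0 →
        SInv S (ψ : H → ℂ) ∧
        ∃ χ : IrrCharacter T, SInv S (χ : T → ℂ) ∧ classInner (res hLT (χ : T → ℂ)) (θ : L → ℂ) ≠ 0 ∧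
          ∃ m : ℕ, classInner (res hHT (χ : T → ℂ)) (ψ : H → ℂ) = (m : ℂ) ∧ Odd m := by
  classical
  let Δ : Subgroup Γ := T ⊔ S
  haveI := Fintype.ofFinite Δ
  have hTD : T ≤ Δ := le_sup_left
  have hSD : S ≤ Δ := le_sup_right
  let L' : Subgroup Δ := L.subgroupOf Δ
  let T' : Subgroup Δ := T.subgroupOf Δ
  let H' : Subgroup Δ := H.subgroupOf Δ
  let S' : Subgroup Δ := S.subgroupOf Δ
  haveI : L'.Normal := (Subgroup.normal_subgroupOf_iff_le_normalizer (hLT.trans hTD)).mpr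
    (sup_le (mem_normalizer_of_conj L T hLnT) (mem_normalizer_of_conj L S hLnS))
  haveI : T'.Normal := (Subgroup.normal_subgroupOf_iff_le_normalizer hTD).mpr
    (sup_le Subgroup.le_normalizer (mem_normalizer_of_conj T S hnorm))
  haveI := Fintype.ofFinite L'
  haveI := Fintype.ofFinite T'
  haveI := Fintype.ofFinite H'
  let eL : L' ≃* L := Subgroup.subgroupOfEquivOfLe (hLT.trans hTD)
  let eT : T' ≃* T := Subgroup.subgroupOfEquivOfLe hTD
  let eH : H' ≃* H := Subgroup.subgroupOfEquivOfLe (hHT.trans hTD)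
  let θ' : IrrCharacter L' := Glauberman.compIrr eL θ
  have hθ' : ∀ g : Δ, conjFun L' g (θ' : L' → ℂ) = θ' := by
    have htop : T' ⊔ S' = ⊤ := by
      show T.subgroupOf Δ ⊔ S.subgroupOf Δ = ⊤
      rw [← Subgroup.subgroupOf_sup hTD hSD]
      exact Subgroup.subgroupOf_self Δ
    have hle : T' ⊔ S' ≤ inertia L' (θ' : L' → ℂ) := by
      refine sup_le (fun g hg => ?_) (fun g hg => ?_) <;> rw [mem_inertia] <;> funext l
      · exact hθT g hg (eL l) (eL ⟨g * l * g⁻¹, ‹L'.Normal›.conj_mem (l : Δ) l.2 g⟩) rfl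
      · exact hθS g hg (eL l) (eL ⟨g * l * g⁻¹, ‹L'.Normal›.conj_mem (l : Δ) l.2 g⟩) rfl
    intro g
    exact mem_inertia L' |>.mp (hle (htop ▸ Subgroup.mem_top g))
  have hcT : ∀ X : Subgroup Γ, X ≤ Δ → Nat.card (X.subgroupOf Δ) = Nat.card X := fun X h =>
    Nat.card_congr (Subgroup.subgroupOfEquivOfLe h).toEquiv
  have hH' : H' = L' ⊔ (T' ⊓ Subgroup.centralizer (S' : Set Δ)) := by
    have e : T' ⊓ Subgroup.centralizer (S' : Set Δ) =
        (T ⊓ Subgroup.centralizer (S : Set Γ)).subgroupOf Δ := by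
      ext g
      simp only [Subgroup.mem_inf, Subgroup.mem_subgroupOf, Subgroup.mem_centralizer_iff, T', S']
      constructor
      · rintro ⟨h1, h2⟩
        exact ⟨h1, fun s hs => congrArg Subtype.val (h2 ⟨s, hSD hs⟩ hs)⟩
      · rintro ⟨h1, h2⟩
        exact ⟨h1, fun s hs => Subtype.ext (h2 s hs)⟩
    rw [e]
    show H.subgroupOf Δ = L.subgroupOf Δ ⊔ (T ⊓ Subgroup.centralizer (S : Set Γ)).subgroupOf Δ
    rw [← Subgroup.subgroupOf_sup (hLT.trans hTD) (inf_le_left.trans hTD), ← hH]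
  have hKTD : K ≤ Δ := hKT.trans hTD
  obtain ⟨t1, t2, t3⟩ := triple_main L' T' S' (K.subgroupOf Δ) H'
    (by rw [hcT T hTD]; exact hodd)
    (by haveI := hsolv; exact Group.isSolvable_of_surjective (f := eT.symm.toMonoidHom) eT.symm.surjective)
    (by rw [hcT T hTD, hcT S hSD]; exact hcop)
    (fun x hx => hLK hx) (fun x hx => hKT hx) hH' (fun x hx => hHT hx)
    (fun g hg k hk => hKn _ hg _ hk) (fun g hg k hk => hKS _ hg _ hk)
    (fun a ha b hb => Subgroup.mem_subgroupOf.mpr (by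
      rw [show ((⁅a, b⁆ : Δ) : Γ) = ⁅(a : Γ), (b : Γ)⁆ from map_commutatorElement Δ.subtype a b]
      exact hab _ ha _ hb))
    (fun x hx => hKH hx)
    (by show K.subgroupOf Δ ⊔ H.subgroupOf Δ = T.subgroupOf Δ
        rw [← Subgroup.subgroupOf_sup hKTD (hHT.trans hTD), hTKH])
    θ' hθ'
  -- translations
  have iT : ∀ χ : IrrCharacter T,
      (∀ s ∈ S', ∀ g g' : T', (g' : Δ) = s * g * s⁻¹ →
        (Glauberman.compIrr eT χ : T' → ℂ) g' = (Glauberman.compIrr eT χ : T' → ℂ) g) ↔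
        SInv S (χ : T → ℂ) := fun χ =>
    ⟨fun h s hs g g' hg => by
      have := h ⟨s, hSD hs⟩ hs (eT.symm g) (eT.symm g') (Subtype.ext hg)
      simpa [Glauberman.compIrr_apply] using this,
     fun h s hs g g' hg => h s hs (eT g) (eT g') (congrArg Subtype.val hg)⟩
  have iH : ∀ ψ : IrrCharacter H,
      (∀ s ∈ S', ∀ g g' : H', (g' : Δ) = s * g * s⁻¹ →
        (Glauberman.compIrr eH ψ : H' → ℂ) g' = (Glauberman.compIrr eH ψ : H' → ℂ) g) →
        SInv S (ψ : H → ℂ) := fun ψ h s hs g g' hg => by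
      have := h ⟨s, hSD hs⟩ hs (eH.symm g) (eH.symm g') (Subtype.ext hg)
      simpa [Glauberman.compIrr_apply] using this
  have oT : ∀ χ : IrrCharacter T,
      classInner (fun l : L' => (Glauberman.compIrr eT χ : T' → ℂ) ⟨l, hLT (eL l).2⟩) (θ' : L' → ℂ) =
        classInner (res hLT (χ : T → ℂ)) (θ : L → ℂ) := fun χ =>
    Glauberman.classInner_comp_equiv eL (res hLT (χ : T → ℂ)) (θ : L → ℂ)
  have oH : ∀ ψ : IrrCharacter H,
      classInner (fun l : L' => (Glauberman.compIrr eH ψ : H' → ℂ) ⟨l, hLH (eL l).2⟩) (θ' : L' → ℂ) =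
        classInner (res hLH (ψ : H → ℂ)) (θ : L → ℂ) := fun ψ =>
    Glauberman.classInner_comp_equiv eL (res hLH (ψ : H → ℂ)) (θ : L → ℂ)
  have mT : ∀ (χ : IrrCharacter T) (ψ : IrrCharacter H),
      classInner (fun h : H' => (Glauberman.compIrr eT χ : T' → ℂ) ⟨h, hHT (eH h).2⟩)
        (Glauberman.compIrr eH ψ : H' → ℂ) = classInner (res hHT (χ : T → ℂ)) (ψ : H → ℂ) := fun χ ψ =>
    Glauberman.classInner_comp_equiv eH (res hHT (χ : T → ℂ)) (ψ : H → ℂ)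
  have sT : ∀ χ' : IrrCharacter T', ∃ χ, Glauberman.compIrr eT χ = χ' := fun χ' =>
    ⟨Glauberman.compIrr eT.symm χ', Subtype.ext (funext fun w => by simp [Glauberman.compIrr_apply])⟩
  have sH : ∀ χ' : IrrCharacter H', ∃ χ, Glauberman.compIrr eH χ = χ' := fun χ' =>
    ⟨Glauberman.compIrr eH.symm χ', Subtype.ext (funext fun w => by simp [Glauberman.compIrr_apply])⟩
  have injT : Function.Injective (Glauberman.compIrr eT) := (Glauberman.compIrrEquiv eT).injective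
  have injH : Function.Injective (Glauberman.compIrr eH) := (Glauberman.compIrrEquiv eH).injective
  refine ⟨fun χ hχ hov => ?_, fun χ χ' hχ hov hχ' hov' ψ m m' h hm h' hm' => ?_, fun ψ hψ => ?_⟩
  · obtain ⟨ψ', ⟨m, hm, hmo⟩, huniq⟩ := t1 (Glauberman.compIrr eT χ) ((iT χ).mpr hχ)
      ((oT χ).trans_ne hov)
    obtain ⟨ψ, rfl⟩ := sH ψ'
    exact ⟨ψ, ⟨m, (mT χ ψ).symm.trans hm, hmo⟩, fun ψ2 ⟨k, hk, hko⟩ =>
      injH (huniq _ ⟨k, (mT χ ψ2).trans hk, hko⟩)⟩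
  · exact injT (t2 _ _ ((iT χ).mpr hχ) ((oT χ).trans_ne hov) ((iT χ').mpr hχ') ((oT χ').trans_ne hov')
      (Glauberman.compIrr eH ψ) m m' ((mT χ ψ).trans h) hm ((mT χ' ψ).trans h') hm')
  · obtain ⟨hinv, χ0, hχ0, hov0, m, hm, hmo⟩ := t3 (Glauberman.compIrr eH ψ) ((oH ψ).trans_ne hψ)
    obtain ⟨χ, rfl⟩ := sT χ0
    exact ⟨iH ψ hinv, χ, (iT χ).mp hχ0, (oT χ).symm.trans_ne hov0, m, (mT χ ψ).symm.trans hm, hmo⟩

/-- Conjugation by the members of `S` on a subgroup they normalise. -/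
def actOn (S X : Subgroup Γ) (h : ∀ s ∈ S, ∀ g ∈ X, s * g * s⁻¹ ∈ X) : S →* MulAut X where
  toFun s :=
    { toFun := fun g => ⟨s.1 * g.1 * s.1⁻¹, h _ s.2 _ g.2⟩
      invFun := fun g => ⟨s.1⁻¹ * g.1 * s.1⁻¹⁻¹, h _ (inv_mem s.2) _ g.2⟩
      left_inv := fun g => Subtype.ext (by group)
      right_inv := fun g => Subtype.ext (by group)
      map_mul' := fun a b => Subtype.ext (by simp [mul_assoc]) }
  map_one' := MulEquiv.ext fun g => Subtype.ext (by simp)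
  map_mul' := fun a b => MulEquiv.ext fun g => Subtype.ext (by simp [mul_assoc])

theorem actOn_coe (S X : Subgroup Γ) (h : ∀ s ∈ S, ∀ g ∈ X, s * g * s⁻¹ ∈ X) (s : S) (g : X) :
    ((actOn S X h s g : X) : Γ) = s * g * (s : Γ)⁻¹ := rfl

/-- An invariant character has an invariant constituent on an invariant normal subgroup. -/
theorem exists_sinv_below (S X L : Subgroup Γ) [Fintype X] [Fintype L] (hsolv : Group.IsSolvable X)
    (hcop : (Nat.card X).Coprime (Nat.card S)) (hnorm : ∀ s ∈ S, ∀ g ∈ X, s * g * s⁻¹ ∈ X)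
    (hLX : L ≤ X) (hLn : ∀ g ∈ X, ∀ l ∈ L, g * l * g⁻¹ ∈ L)
    (hLS : ∀ s ∈ S, ∀ l ∈ L, s * l * s⁻¹ ∈ L) (χ : IrrCharacter X) (hχ : SInv S (χ : X → ℂ)) :
    ∃ θ : IrrCharacter L, SInv S (θ : L → ℂ) ∧ classInner (res hLX (χ : X → ℂ)) (θ : L → ℂ) ≠ 0 := by
  classical
  let N : Subgroup X := L.subgroupOf X
  haveI : N.Normal := ⟨fun n hn g => hLn _ g.2 _ hn⟩
  haveI := Fintype.ofFinite N
  haveI := hsolv
  let e : N ≃* L := Subgroup.subgroupOfEquivOfLe hLX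
  obtain ⟨θ0, hθ0, hne⟩ := Glauberman.exists_inv_below (actOn S X hnorm) N (fun s x hx => hLS _ s.2 _ hx)
    (hcop.coprime_dvd_left (Subgroup.index_dvd_card N))
    (Or.inr (Group.isSolvable_of_surjective (QuotientGroup.mk'_surjective N))) χ
    (fun s g => hχ s s.2 g _ rfl)
  refine ⟨Glauberman.compIrr e.symm θ0, fun s hs g g' hg => ?_, ?_⟩
  · rw [Glauberman.compIrr_apply, Glauberman.compIrr_apply, ← hθ0 ⟨s, hs⟩ (e.symm g)]
    exact congrArg (θ0 : N → ℂ) (Subtype.ext (Subtype.ext hg))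
  · rw [← Glauberman.classInner_comp_equiv e]
    intro h
    apply hne
    rw [← h]
    congr 1

/-- Pushing invariance through a correspondence characterised by non-zero multiplicity. -/
theorem classInner_twist (S : Subgroup Γ) {X P : Subgroup Γ} [Fintype P] (hPX : P ≤ X)
    (hP : ∀ s ∈ S, ∀ g ∈ P, s * g * s⁻¹ ∈ P) {f : X → ℂ} (hf : SInv S f) (s : S) (η : IrrCharacter P) :
    classInner (res hPX f) (Glauberman.compIrr (actOn S P hP s) η : P → ℂ) =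
      classInner (res hPX f) (η : P → ℂ) := by
  conv_rhs => rw [← Glauberman.classInner_comp_equiv (actOn S P hP s)]
  congr 1
  funext g
  exact (hf s s.2 ⟨g, hPX g.2⟩ ⟨_, hPX (actOn S P hP s g).2⟩ rfl).symm

set_option maxHeartbeats 1600000 in
theorem main (G S K L H : Subgroup Γ) [Fintype G] [Fintype H]
    (hnorm : ∀ s ∈ S, ∀ g ∈ G, s * g * s⁻¹ ∈ G) (hcop : (Nat.card G).Coprime (Nat.card S))
    (hsolv : Group.IsSolvable G) (hodd : Odd (Nat.card G))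
    (hLK : L ≤ K) (hKG : K ≤ G) (hKn : ∀ g ∈ G, ∀ k ∈ K, g * k * g⁻¹ ∈ K)
    (hLn : ∀ g ∈ G, ∀ l ∈ L, g * l * g⁻¹ ∈ L)
    (hKS : ∀ s ∈ S, ∀ k ∈ K, s * k * s⁻¹ ∈ K) (hLS : ∀ s ∈ S, ∀ l ∈ L, s * l * s⁻¹ ∈ L)
    (hab : ∀ a ∈ K, ∀ b ∈ K, ⁅a, b⁆ ∈ L)
    (hH : H = L ⊔ (G ⊓ Subgroup.centralizer (S : Set Γ))) (hHG : H ≤ G)
    (hKH : K ⊓ H ≤ L) (hGKH : K ⊔ H = G) :
    (∀ χ : IrrCharacter G, SInv S (χ : G → ℂ) → ∃! ψ : IrrCharacter H, SInv S (ψ : H → ℂ) ∧
        ∃ m : ℕ, classInner (res hHG (χ : G → ℂ)) (ψ : H → ℂ) = (m : ℂ) ∧ Odd m) ∧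
    (∀ χ χ' : IrrCharacter G, SInv S (χ : G → ℂ) → SInv S (χ' : G → ℂ) →
        ∀ ψ : IrrCharacter H, SInv S (ψ : H → ℂ) → ∀ m m' : ℕ,
          classInner (res hHG (χ : G → ℂ)) (ψ : H → ℂ) = (m : ℂ) → Odd m →
          classInner (res hHG (χ' : G → ℂ)) (ψ : H → ℂ) = (m' : ℂ) → Odd m' → χ = χ') ∧
    ∀ ψ : IrrCharacter H, SInv S (ψ : H → ℂ) → ∃ χ : IrrCharacter G, SInv S (χ : G → ℂ) ∧
        ∃ m : ℕ, classInner (res hHG (χ : G → ℂ)) (ψ : H → ℂ) = (m : ℂ) ∧ Odd m := by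
  classical
  haveI := Fintype.ofFinite L
  have hLG : L ≤ G := hLK.trans hKG
  have hLH : L ≤ H := le_sup_left.trans hH.ge
  set C := G ⊓ Subgroup.centralizer (S : Set Γ) with hC
  have hnC : ∀ s ∈ S, ∀ c ∈ C, s * c * s⁻¹ = c := fun s hs c hc => by
    rw [Subgroup.mem_centralizer_iff.mp hc.2 s hs, mul_inv_cancel_right]
  have hnH : ∀ s ∈ S, ∀ g ∈ H, s * g * s⁻¹ ∈ H := by
    intro s hs g hg
    have hle : H ≤ H.comap (MulAut.conj s).toMonoidHom := by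
      rw [hH]
      refine sup_le (fun l hl => ?_) (fun c hc => ?_)
      · exact Subgroup.mem_sup_left (hLS s hs l hl)
      · show s * c * s⁻¹ ∈ L ⊔ C
        rw [hnC s hs c hc]
        exact Subgroup.mem_sup_right hc
    exact hle hg
  have hLnH : ∀ g ∈ H, ∀ l ∈ L, g * l * g⁻¹ ∈ L := fun g hg => hLn g (hHG hg)
  have hsolvH : Group.IsSolvable H :=
    haveI := hsolv; Group.isSolvable_of_isSolvable_injective (Subgroup.inclusion_injective hHG)
  have hcopH : (Nat.card H).Coprime (Nat.card S) := hcop.coprime_dvd_left (Subgroup.card_dvd_of_le hHG)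
  -- everything over one invariant character of `L`
  have core : ∀ θ : IrrCharacter L, SInv S (θ : L → ℂ) →
      (∀ χ : IrrCharacter G, SInv S (χ : G → ℂ) → classInner (res hLG (χ : G → ℂ)) (θ : L → ℂ) ≠ 0 →
        ∃ ψ : IrrCharacter H, SInv S (ψ : H → ℂ) ∧
          (∃ m : ℕ, classInner (res hHG (χ : G → ℂ)) (ψ : H → ℂ) = (m : ℂ) ∧ Odd m) ∧
          ∀ ψ' : IrrCharacter H, classInner (res hLH (ψ' : H → ℂ)) (θ : L → ℂ) ≠ 0 →
            (∃ m : ℕ, classInner (res hHG (χ : G → ℂ)) (ψ' : H → ℂ) = (m : ℂ) ∧ Odd m) → ψ' = ψ) ∧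
      (∀ χ χ' : IrrCharacter G, SInv S (χ : G → ℂ) → SInv S (χ' : G → ℂ) →
        classInner (res hLG (χ : G → ℂ)) (θ : L → ℂ) ≠ 0 →
        classInner (res hLG (χ' : G → ℂ)) (θ : L → ℂ) ≠ 0 →
        ∀ ψ : IrrCharacter H, classInner (res hLH (ψ : H → ℂ)) (θ : L → ℂ) ≠ 0 → ∀ m m' : ℕ,
          classInner (res hHG (χ : G → ℂ)) (ψ : H → ℂ) = (m : ℂ) → Odd m →
          classInner (res hHG (χ' : G → ℂ)) (ψ : H → ℂ) = (m' : ℂ) → Odd m' → χ = χ') ∧
      ∀ ψ : IrrCharacter H, classInner (res hLH (ψ : H → ℂ)) (θ : L → ℂ) ≠ 0 →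
        ∃ χ : IrrCharacter G, SInv S (χ : G → ℂ) ∧
          ∃ m : ℕ, classInner (res hHG (χ : G → ℂ)) (ψ : H → ℂ) = (m : ℂ) ∧ Odd m := by
    intro θ hθ
    let T : Subgroup Γ :=
      { carrier := {g | g ∈ G ∧ ∀ l l' : L, (l' : Γ) = g * l * g⁻¹ → (θ : L → ℂ) l' = (θ : L → ℂ) l}
        one_mem' := ⟨one_mem G, fun l l' h => congrArg _ (Subtype.ext (by simpa using h))⟩
        mul_mem' := by
          rintro a b ⟨ha, ha'⟩ ⟨hb, hb'⟩
          refine ⟨mul_mem ha hb, fun l l' h => ?_⟩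
          rw [ha' ⟨b * l * b⁻¹, hLn b hb l l.2⟩ l' (by rw [h]; simp [mul_assoc])]
          exact hb' l _ rfl
        inv_mem' := by
          rintro a ⟨ha, ha'⟩
          exact ⟨inv_mem ha, fun l l' h => (ha' l' l (by rw [h]; simp [mul_assoc])).symm⟩ }
    haveI := Fintype.ofFinite T
    have hTG : T ≤ G := fun g hg => hg.1
    have hLT : L ≤ T := fun x hx => ⟨hLG hx, fun l l' h => by
      rw [show l' = (⟨x, hx⟩ : L) * l * (⟨x, hx⟩ : L)⁻¹ from Subtype.ext (by simpa using h)]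
      exact CT.isClassFunction_of_isIrr θ.2 l ⟨x, hx⟩⟩
    have hTn : ∀ s ∈ S, ∀ g ∈ T, s * g * s⁻¹ ∈ T := by
      intro s hs g hg
      refine ⟨hnorm s hs g hg.1, fun l l' h => ?_⟩
      let l1 : L := ⟨s⁻¹ * l * s, by have := hLS s⁻¹ (inv_mem hs) l l.2; rwa [inv_inv] at this⟩
      let l2 : L := ⟨g * l1 * g⁻¹, hLn g hg.1 l1 l1.2⟩
      have e1 : (θ : L → ℂ) l = (θ : L → ℂ) l1 := hθ s hs l1 l (by simp [l1, mul_assoc])
      have e2 : (θ : L → ℂ) l' = (θ : L → ℂ) l2 := hθ s hs l2 l' (by simp [l1, l2, h, mul_assoc])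
      rw [e1, e2]
      exact hg.2 l1 l2 rfl
    set HT := T ⊓ H with hHT
    haveI := Fintype.ofFinite HT
    have hHT' : HT = L ⊔ (T ⊓ Subgroup.centralizer (S : Set Γ)) := by
      refine le_antisymm (fun g hg => ?_) (sup_le (le_inf hLT hLH) (le_inf inf_le_left
        fun c hc => hH.ge (Subgroup.mem_sup_right ⟨hTG hc.1, hc.2⟩)))
      have hgH : g ∈ L ⊔ C := hH ▸ hg.2
      rw [← SetLike.mem_coe, Subgroup.coe_mul_of_right_le_normalizer_left L C
        (mem_normalizer_of_conj L C fun c hc => hLn c hc.1)] at hgH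
      obtain ⟨l, hl, c, hc, rfl⟩ := hgH
      refine Subgroup.mul_mem_sup hl ⟨?_, hc.2⟩
      have := mul_mem (inv_mem (hLT hl)) hg.1
      rwa [inv_mul_cancel_left] at this
    have hLHT : L ≤ HT := le_inf hLT hLH
    have hdec : (K ⊓ T) ⊔ HT = T := by
      refine le_antisymm (sup_le inf_le_right inf_le_left) fun g hg => ?_
      have hgG : g ∈ K ⊔ H := hGKH.ge hg.1
      rw [← SetLike.mem_coe, Subgroup.coe_mul_of_right_le_normalizer_left K H
        (mem_normalizer_of_conj K H fun c hc => hKn c (hHG hc))] at hgG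
      obtain ⟨k, hk, h, hh, hkh⟩ := hgG
      have hkh' : k * h = g := hkh
      have hhC : h ∈ L ⊔ C := hH ▸ hh
      rw [← SetLike.mem_coe, Subgroup.coe_mul_of_right_le_normalizer_left L C
        (mem_normalizer_of_conj L C fun c hc => hLn c hc.1)] at hhC
      obtain ⟨l, hl, c0, hc0, hlc⟩ := hhC
      have hlc' : l * c0 = h := hlc
      have hfix : ∀ s ∈ S, s * g * s⁻¹ * g⁻¹ ∈ K ⊓ T := by
        intro s hs
        refine Subgroup.mem_inf.mpr ⟨?_, mul_mem (hTn s hs g hg) (inv_mem hg)⟩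
        have e : g = (k * l) * c0 := by rw [mul_assoc, hlc', hkh']
        have e2 : s * g * s⁻¹ * g⁻¹ = (s * (k * l) * s⁻¹) * (k * l)⁻¹ := by
          conv_lhs => rw [e]
          rw [show s * (k * l * c0) * s⁻¹ = s * (k * l) * s⁻¹ * (s * c0 * s⁻¹) by group, hnC s hs c0 hc0]
          group
        rw [e2]
        exact mul_mem (hKS s hs _ (mul_mem hk (hLK hl))) (inv_mem (mul_mem hk (hLK hl)))
      have hKTn : ∀ t ∈ T, ∀ x ∈ K ⊓ T, t * x * t⁻¹ ∈ K ⊓ T := fun t ht x hx =>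
        Subgroup.mem_inf.mpr ⟨hKn t ht.1 x hx.1, mul_mem (mul_mem ht (Subgroup.mem_inf.mp hx).2) (inv_mem ht)⟩
      obtain ⟨c, hc, hcD⟩ := Basics.exists_centralizer_mem_coset S (K ⊓ T)
        (mem_normalizer_of_conj _ S fun s hs x hx => ⟨hKS s hs x hx.1, hTn s hs x hx.2⟩)
        (hcop.symm.coprime_dvd_right (Subgroup.card_dvd_of_le (inf_le_left.trans hKG)))
        (Or.inr (haveI := hsolv; Group.isSolvable_of_isSolvable_injective
          (Subgroup.inclusion_injective (inf_le_left.trans hKG : K ⊓ T ≤ G))))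
        g (mem_normalizer_of_conj _ T hKTn hg) hfix
      have hcT : c ∈ T := by
        have := mul_mem hg hcD.2
        rwa [mul_inv_cancel_left] at this
      have hcH : c ∈ HT := ⟨hcT, hH.ge (Subgroup.mem_sup_right ⟨hTG hcT, hc⟩)⟩
      have : g = (g * (g⁻¹ * c)⁻¹ * g⁻¹) * c := by group
      rw [this]
      exact Subgroup.mul_mem_sup (hKTn g hg _ (inv_mem hcD)) hcH
    obtain ⟨t1, t2, t3⟩ := triple_sub L T S (K ⊓ T) HT
      (hodd.of_dvd_nat (Subgroup.card_dvd_of_le hTG))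
      (haveI := hsolv; Group.isSolvable_of_isSolvable_injective (Subgroup.inclusion_injective hTG))
      (hcop.coprime_dvd_left (Subgroup.card_dvd_of_le hTG)) hTn (le_inf hLK hLT) inf_le_right
      (fun g hg => hLn g hg.1) hLS hHT' inf_le_left hLT hLHT
      (fun g hg k hk => Subgroup.mem_inf.mpr ⟨hKn g hg.1 k hk.1, mul_mem (mul_mem hg (Subgroup.mem_inf.mp hk).2) (inv_mem hg)⟩)
      (fun s hs k hk => ⟨hKS s hs k hk.1, hTn s hs k hk.2⟩)
      (fun a ha b hb => hab a ha.1 b hb.1)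
      (fun x hx => hKH ⟨hx.1.1, hx.2.2⟩) hdec θ (fun t ht => ht.2) hθ
    obtain ⟨eG, eG1, eG2, eG3⟩ := cliff G L T hLG hLn θ (fun g => Iff.rfl) hTG hLT
    obtain ⟨eH, eH1, eH2, eH3⟩ := cliff H L HT hLH hLnH θ
      (fun g => ⟨fun hg => ⟨hg.2, hg.1.2⟩, fun hg => ⟨⟨hHG hg.1, hg.2⟩, hg.1⟩⟩) inf_le_right hLHT
    have hmult : ∀ χ ψ, classInner (res hHG (χ.1 : G → ℂ)) (ψ.1 : H → ℂ) =
        classInner (res (inf_le_left : HT ≤ T) ((eG χ).1 : T → ℂ)) ((eH ψ).1 : HT → ℂ) := fun χ ψ => by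
      rw [eH2 ψ _ (isCharacter_res hHG (CT.isCharacter_of_isIrr χ.1.2))]
      exact eG3 χ HT hLHT inf_le_left (eH ψ).1 (eH ψ).2
    -- invariance passes through both correspondences
    have invT : ∀ χ, SInv S (χ.1 : G → ℂ) → SInv S ((eG χ).1 : T → ℂ) := by
      intro χ hχ s hs g g' hg
      let ξ' := Glauberman.compIrr (actOn S T hTn ⟨s, hs⟩) (eG χ).1
      have hov : classInner (res hLT (ξ' : T → ℂ)) (θ : L → ℂ) ≠ 0 := by
        rw [← Glauberman.classInner_comp_equiv (actOn S L hLS ⟨s, hs⟩⁻¹)]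
        intro h0
        apply (eG χ).2
        refine Eq.trans ?_ h0
        congr 1
        · funext l
          show _ = (ξ' : T → ℂ) ⟨_, hLT (actOn S L hLS ⟨s, hs⟩⁻¹ l).2⟩
          rw [Glauberman.compIrr_apply]
          exact congrArg ((eG χ).1 : T → ℂ) (Subtype.ext (by
            show _ = s * (s⁻¹ * (l : Γ) * s⁻¹⁻¹) * s⁻¹
            group))
        · funext l
          exact (hθ s⁻¹ (inv_mem hs) l _ rfl).symm
      have h1 : eG χ = ⟨ξ', hov⟩ := (eG1 χ _).mp (by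
        rw [classInner_twist S hTG hTn hχ ⟨s, hs⟩]
        exact (eG1 χ (eG χ)).mpr rfl)
      rw [show g' = actOn S T hTn ⟨s, hs⟩ g from Subtype.ext hg]
      exact (congrFun (congrArg Subtype.val (congrArg Subtype.val h1)) g).symm
    have invG : ∀ χ, SInv S ((eG χ).1 : T → ℂ) → SInv S (χ.1 : G → ℂ) := by
      intro χ hξ s hs g g' hg
      let χ' := Glauberman.compIrr (actOn S G hnorm ⟨s, hs⟩) χ.1
      have hov : classInner (res hLG (χ' : G → ℂ)) (θ : L → ℂ) ≠ 0 := by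
        rw [← Glauberman.classInner_comp_equiv (actOn S L hLS ⟨s, hs⟩⁻¹)]
        intro h0
        apply χ.2
        refine Eq.trans ?_ h0
        congr 1
        · funext l
          show _ = (χ' : G → ℂ) ⟨_, hLG (actOn S L hLS ⟨s, hs⟩⁻¹ l).2⟩
          rw [Glauberman.compIrr_apply]
          exact congrArg (χ.1 : G → ℂ) (Subtype.ext (by
            show _ = s * (s⁻¹ * (l : Γ) * s⁻¹⁻¹) * s⁻¹
            group))
        · funext l
          exact (hθ s⁻¹ (inv_mem hs) l _ rfl).symm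
      have h1 : eG ⟨χ', hov⟩ = eG χ := (eG1 ⟨χ', hov⟩ (eG χ)).mp (by
        intro h0
        refine (eG1 χ (eG χ)).mpr rfl ?_
        refine Eq.trans ?_ h0
        conv_rhs => rw [← Glauberman.classInner_comp_equiv (actOn S T hTn ⟨s, hs⟩⁻¹)]
        congr 1
        · funext t
          show _ = (χ' : G → ℂ) ⟨_, hTG (actOn S T hTn ⟨s, hs⟩⁻¹ t).2⟩
          rw [Glauberman.compIrr_apply]
          exact congrArg (χ.1 : G → ℂ) (Subtype.ext (by
            show _ = s * (s⁻¹ * (t : Γ) * s⁻¹⁻¹) * s⁻¹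
            group))
        · funext t
          exact (hξ s⁻¹ (inv_mem hs) t _ rfl).symm)
      rw [show g' = actOn S G hnorm ⟨s, hs⟩ g from Subtype.ext hg]
      exact congrFun (congrArg Subtype.val (congrArg Subtype.val (eG.injective h1))) g
    have invH : ∀ ψ, SInv S ((eH ψ).1 : HT → ℂ) → SInv S (ψ.1 : H → ℂ) := by
      intro ψ hξ s hs g g' hg
      let ψ' := Glauberman.compIrr (actOn S H hnH ⟨s, hs⟩) ψ.1
      have hHTn : ∀ s ∈ S, ∀ g ∈ HT, s * g * s⁻¹ ∈ HT := fun s hs g hg =>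
        ⟨hTn s hs g hg.1, hnH s hs g hg.2⟩
      have hov : classInner (res hLH (ψ' : H → ℂ)) (θ : L → ℂ) ≠ 0 := by
        rw [← Glauberman.classInner_comp_equiv (actOn S L hLS ⟨s, hs⟩⁻¹)]
        intro h0
        apply ψ.2
        refine Eq.trans ?_ h0
        congr 1
        · funext l
          show _ = (ψ' : H → ℂ) ⟨_, hLH (actOn S L hLS ⟨s, hs⟩⁻¹ l).2⟩
          rw [Glauberman.compIrr_apply]
          exact congrArg (ψ.1 : H → ℂ) (Subtype.ext (by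
            show _ = s * (s⁻¹ * (l : Γ) * s⁻¹⁻¹) * s⁻¹
            group))
        · funext l
          exact (hθ s⁻¹ (inv_mem hs) l _ rfl).symm
      have h1 : eH ⟨ψ', hov⟩ = eH ψ := (eH1 ⟨ψ', hov⟩ (eH ψ)).mp (by
        intro h0
        refine (eH1 ψ (eH ψ)).mpr rfl ?_
        refine Eq.trans ?_ h0
        conv_rhs => rw [← Glauberman.classInner_comp_equiv (actOn S HT hHTn ⟨s, hs⟩⁻¹)]
        congr 1
        · funext t
          show _ = (ψ' : H → ℂ) ⟨_, (inf_le_right : HT ≤ H) (actOn S HT hHTn ⟨s, hs⟩⁻¹ t).2⟩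
          rw [Glauberman.compIrr_apply]
          exact congrArg (ψ.1 : H → ℂ) (Subtype.ext (by
            show _ = s * (s⁻¹ * (t : Γ) * s⁻¹⁻¹) * s⁻¹
            group))
        · funext t
          exact (hξ s⁻¹ (inv_mem hs) t _ rfl).symm)
      rw [show g' = actOn S H hnH ⟨s, hs⟩ g from Subtype.ext hg]
      exact congrFun (congrArg Subtype.val (congrArg Subtype.val (eH.injective h1))) g
    refine ⟨fun χ hχ hov => ?_, fun χ χ' hχ hχ' hov hov' ψ hψ m m' h hm h' hm' => ?_, fun ψ hψ => ?_⟩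
    · obtain ⟨η, ⟨m, hm, hmo⟩, huniq⟩ := t1 (eG ⟨χ, hov⟩).1 (invT _ hχ) (eG ⟨χ, hov⟩).2
      have hη : classInner (res hLHT (η : HT → ℂ)) (θ : L → ℂ) ≠ 0 := by
        let L' : Subgroup HT := L.subgroupOf HT
        haveI := Fintype.ofFinite L'
        let e : L' ≃* L := Subgroup.subgroupOfEquivOfLe hLHT
        intro h0
        let N : Subgroup T := L.subgroupOf T
        haveI : N.Normal := ⟨fun n hn g => hLn _ (hTG g.2) _ hn⟩
        haveI := Fintype.ofFinite N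
        let eN : N ≃* L := Subgroup.subgroupOfEquivOfLe hLT
        -- over the inertia group the character is a multiple of `θ` on `L`
        have hx := CT.restrict_eq_smul_of_invariant N (eG ⟨χ, hov⟩).1.2 (Glauberman.compIrr eN θ).2
          (fun h => (eG ⟨χ, hov⟩).2 ((Glauberman.classInner_comp_equiv eN
            (res hLT ((eG ⟨χ, hov⟩).1 : T → ℂ)) (θ : L → ℂ)).symm.trans h))
          (fun t => funext fun n => t.2.2 (eN n) (eN ⟨t * n * t⁻¹, hLn _ (hTG t.2) _ n.2⟩) rfl)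
        have hsum := CT.character_eq_sum
          (CT.isCharacter_comp (Subgroup.inclusion hLHT) (CT.isCharacter_of_isIrr η.2))
        obtain ⟨θ1, hθ1⟩ := CT.exists_constituent
          (CT.isCharacter_comp (Subgroup.inclusion hLHT) (CT.isCharacter_of_isIrr η.2))
          (fun h => CT.irr_one_ne_zero η.2 (by have := congrFun h 1; simpa using this))
        have hne : classInner (res hLT ((eG ⟨χ, hov⟩).1 : T → ℂ)) (θ1 : L → ℂ) ≠ 0 := by
          have := CT.classInner_eq_of_res_ne_zero (H := L')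
            (isCharacter_res (inf_le_left : HT ≤ T) (CT.isCharacter_of_isIrr (eG ⟨χ, hov⟩).1.2)) η.2
            (CT.isCharacter_comp e.toMonoidHom (CT.isCharacter_of_isIrr θ1.2))
            (by rw [hm]; exact Nat.cast_ne_zero.mpr hmo.pos.ne')
            (fun h => hθ1 ((Glauberman.classInner_comp_equiv e (res hLHT (η : HT → ℂ)) (θ1 : L → ℂ)).symm.trans h))
          exact fun h => this ((Glauberman.classInner_comp_equiv e
            (res hLT ((eG ⟨χ, hov⟩).1 : T → ℂ)) (θ1 : L → ℂ)).trans h)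
        apply hne
        rw [← Glauberman.classInner_comp_equiv eN]
        rw [show (fun n : N => res hLT ((eG ⟨χ, hov⟩).1 : T → ℂ) (eN n)) =
          fun n : N => ((eG ⟨χ, hov⟩).1 : T → ℂ) n from rfl, hx, CT.classInner_smul_left,
          show classInner (Glauberman.compIrr eN θ : N → ℂ) (fun h => (θ1 : L → ℂ) (eN h)) =
            classInner (θ : L → ℂ) (θ1 : L → ℂ) from Glauberman.classInner_comp_equiv eN _ _,
          CT.irr_inner_of_ne θ.2 θ1.2 (fun he => hθ1 (by rw [← he]; exact h0)), mul_zero]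
      obtain ⟨ψ, hψ⟩ := eH.surjective ⟨η, hη⟩
      refine ⟨ψ.1, invH ψ ?_, ⟨m, ?_, hmo⟩, ?_⟩
      · rw [hψ]; exact (t3 η hη).1
      · rw [hmult ⟨χ, hov⟩ ψ, hψ]; exact hm
      · rintro ψ' hψ' ⟨k, hk, hko⟩
        rw [hmult ⟨χ, hov⟩ ⟨ψ', hψ'⟩] at hk
        have := huniq _ ⟨k, hk, hko⟩
        exact congrArg Subtype.val (eH.injective ((Subtype.ext this).trans hψ.symm))
    · rw [hmult ⟨χ, hov⟩ ⟨ψ, hψ⟩] at h
      rw [hmult ⟨χ', hov'⟩ ⟨ψ, hψ⟩] at h'
      have := t2 _ _ (invT ⟨χ, hov⟩ hχ) (eG ⟨χ, hov⟩).2 (invT ⟨χ', hov'⟩ hχ') (eG ⟨χ', hov'⟩).2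
        (eH ⟨ψ, hψ⟩).1 m m' h hm h' hm'
      exact congrArg Subtype.val (eG.injective (Subtype.ext this))
    · obtain ⟨-, ξ, hξ, hξov, m, hm, hmo⟩ := t3 (eH ⟨ψ, hψ⟩).1 (eH ⟨ψ, hψ⟩).2
      obtain ⟨χ, hχ⟩ := eG.surjective ⟨ξ, hξov⟩
      refine ⟨χ.1, invG χ ?_, m, ?_, hmo⟩
      · rw [hχ]; exact hξ
      · rw [hmult χ ⟨ψ, hψ⟩, hχ]; exact hm
  -- a constituent of a constituent
  have hup : ∀ (χ : IrrCharacter G) (ψ : IrrCharacter H) (θ : IrrCharacter L) (m : ℕ),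
      classInner (res hHG (χ : G → ℂ)) (ψ : H → ℂ) = (m : ℂ) → Odd m →
      classInner (res hLH (ψ : H → ℂ)) (θ : L → ℂ) ≠ 0 →
      classInner (res hLG (χ : G → ℂ)) (θ : L → ℂ) ≠ 0 := by
    intro χ ψ θ m hm hmo hψ
    let L' : Subgroup H := L.subgroupOf H
    haveI := Fintype.ofFinite L'
    let e : L' ≃* L := Subgroup.subgroupOfEquivOfLe hLH
    have := CT.classInner_eq_of_res_ne_zero (H := L')
      (isCharacter_res hHG (CT.isCharacter_of_isIrr χ.2)) ψ.2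
      (CT.isCharacter_comp e.toMonoidHom (CT.isCharacter_of_isIrr θ.2))
      (by rw [hm]; exact Nat.cast_ne_zero.mpr hmo.pos.ne')
      (fun h => hψ ((Glauberman.classInner_comp_equiv e (res hLH (ψ : H → ℂ)) (θ : L → ℂ)).symm.trans h))
    exact fun h => this ((Glauberman.classInner_comp_equiv e (res hLG (χ : G → ℂ)) (θ : L → ℂ)).trans h)
  refine ⟨fun χ hχ => ?_, fun χ χ' hχ hχ' ψ hψ m m' h hm h' hm' => ?_, fun ψ hψ => ?_⟩
  · obtain ⟨θ, hθ, hov⟩ := exists_sinv_below S G L hsolv hcop hnorm hLG hLn hLS χ hχ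
    obtain ⟨ψ, hψ, hm, huniq⟩ := (core θ hθ).1 χ hχ hov
    refine ⟨ψ, ⟨hψ, hm⟩, ?_⟩
    rintro ψ' ⟨hψ', hm'⟩
    refine huniq ψ' ?_ hm'
    obtain ⟨θ', hθ', hov'⟩ := exists_sinv_below S H L hsolvH hcopH hnH hLH hLnH hLS ψ' hψ'
    obtain ⟨m', hm1, hm2⟩ := hm'
    have hov2 := hup χ ψ' θ' m' hm1 hm2 hov'
    -- the two invariant characters of `L` are conjugate by a fixed point
    let N : Subgroup G := L.subgroupOf G
    haveI : N.Normal := ⟨fun n hn g => hLn _ g.2 _ hn⟩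
    haveI := Fintype.ofFinite N
    let eN : N ≃* L := Subgroup.subgroupOfEquivOfLe hLG
    obtain ⟨g, hg⟩ := CT.exists_conj_of_constituent N χ.2 (Glauberman.compIrr eN θ).2
      (Glauberman.compIrr eN θ').2
      (fun h => hov ((Glauberman.classInner_comp_equiv eN (res hLG (χ : G → ℂ)) (θ : L → ℂ)).symm.trans h))
      (fun h => hov2 ((Glauberman.classInner_comp_equiv eN (res hLG (χ : G → ℂ)) (θ' : L → ℂ)).symm.trans h))
    have hgθ : ∀ l l' : L, (l' : Γ) = (g : Γ) * l * (g : Γ)⁻¹ → (θ : L → ℂ) l' = (θ' : L → ℂ) l := by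
      intro l l' hl
      have := congrFun hg (eN.symm l)
      simp only [CT.conjFun, Glauberman.compIrr_apply, MulEquiv.apply_symm_apply] at this
      rw [← this]
      exact congrArg (θ : L → ℂ) (Subtype.ext hl)
    let D : Subgroup Γ :=
      { carrier := {x | x ∈ G ∧ ∀ l l' : L, (l' : Γ) = x * l * x⁻¹ → (θ' : L → ℂ) l' = (θ' : L → ℂ) l}
        one_mem' := ⟨one_mem G, fun l l' h => congrArg _ (Subtype.ext (by simpa using h))⟩
        mul_mem' := by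
          rintro a b ⟨ha, ha'⟩ ⟨hb, hb'⟩
          refine ⟨mul_mem ha hb, fun l l' h => ?_⟩
          rw [ha' ⟨b * l * b⁻¹, hLn b hb l l.2⟩ l' (by rw [h]; simp [mul_assoc])]
          exact hb' l _ rfl
        inv_mem' := by
          rintro a ⟨ha, ha'⟩
          exact ⟨inv_mem ha, fun l l' h => (ha' l' l (by rw [h]; simp [mul_assoc])).symm⟩ }
    have hfix : ∀ s ∈ S, (g : Γ)⁻¹ * s * (g : Γ) * s⁻¹ ∈ D := by
      intro s hs
      refine ⟨?_, fun l l' hl => ?_⟩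
      · rw [show (g : Γ)⁻¹ * s * g * s⁻¹ = (g : Γ)⁻¹ * (s * g * s⁻¹) by group]
        exact mul_mem (inv_mem g.2) (hnorm s hs _ g.2)
      · let a : L := ⟨(g : Γ) * l' * (g : Γ)⁻¹, hLn _ g.2 _ l'.2⟩
        let b : L := ⟨s⁻¹ * a * s⁻¹⁻¹, hLS _ (inv_mem hs) _ a.2⟩
        let c : L := ⟨s⁻¹ * l * s⁻¹⁻¹, hLS _ (inv_mem hs) _ l.2⟩
        rw [← hgθ l' a rfl, ← hθ s⁻¹ (inv_mem hs) a b rfl, ← hθ' s⁻¹ (inv_mem hs) l c rfl]
        refine hgθ c b ?_
        show s⁻¹ * ((g : Γ) * l' * (g : Γ)⁻¹) * s⁻¹⁻¹ = (g : Γ) * (s⁻¹ * l * s⁻¹⁻¹) * (g : Γ)⁻¹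
        rw [hl]; group
    haveI := hsolv
    obtain ⟨c, hc, hcD⟩ := Basics.exists_centralizer_mem_leftCoset S D
      (mem_normalizer_of_conj D S fun s hs x hx => ⟨hnorm s hs x hx.1, fun l l' h => by
        let l1 : L := ⟨s⁻¹ * l * s, by have := hLS s⁻¹ (inv_mem hs) l l.2; rwa [inv_inv] at this⟩
        let l2 : L := ⟨x * l1 * x⁻¹, hLn x hx.1 l1 l1.2⟩
        have e1 : (θ' : L → ℂ) l = (θ' : L → ℂ) l1 := hθ' s hs l1 l (by simp [l1, mul_assoc])
        have e2 : (θ' : L → ℂ) l' = (θ' : L → ℂ) l2 := hθ' s hs l2 l' (by simp [l1, l2, h, mul_assoc])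
        rw [e1, e2]
        exact hx.2 l1 l2 rfl⟩)
      (hcop.symm.coprime_dvd_right (Subgroup.card_dvd_of_le fun x hx => hx.1))
      (Or.inr (Group.isSolvable_of_isSolvable_injective
        (Subgroup.inclusion_injective (fun x hx => hx.1 : D ≤ G))))
      (g : Γ) hfix
    have hcG : c ∈ G := by
      have := mul_mem g.2 hcD.1
      rwa [mul_inv_cancel_left] at this
    have hcH : c ∈ H := hH.ge (Subgroup.mem_sup_right ⟨hcG, hc⟩)
    -- transport along the fixed point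
    let L' : Subgroup H := L.subgroupOf H
    haveI : L'.Normal := ⟨fun n hn h => hLnH _ h.2 _ hn⟩
    haveI := Fintype.ofFinite L'
    let e : L' ≃* L := Subgroup.subgroupOfEquivOfLe hLH
    rw [← Glauberman.classInner_comp_equiv e]
    show classInner (fun n : L' => (ψ' : H → ℂ) n) (fun n => (θ : L → ℂ) (e n)) ≠ 0
    rw [← CT.classInner_restrict_conjFun L' (CT.isClassFunction_of_isIrr ψ'.2) (fun n => (θ : L → ℂ) (e n)) ⟨c, hcH⟩]
    rw [← Glauberman.classInner_comp_equiv e] at hov'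
    have key : CT.conjFun L' ⟨c, hcH⟩ (fun n => (θ : L → ℂ) (e n)) = fun n => (θ' : L → ℂ) (e n) := by
      funext n
      let b : L := ⟨(g : Γ)⁻¹ * c * (e n : Γ) * ((g : Γ)⁻¹ * c)⁻¹, hLn _ hcD.1 _ (e n).2⟩
      rw [← hcD.2 (e n) b rfl]
      refine hgθ b _ ?_
      show c * (e n : Γ) * c⁻¹ = _
      simp only [b]; group
    rw [key]
    exact hov'
  · obtain ⟨θ, hθ, hov⟩ := exists_sinv_below S H L hsolvH hcopH hnH hLH hLnH hLS ψ hψ
    exact (core θ hθ).2.1 χ χ' hχ hχ' (hup χ ψ θ m h hm hov) (hup χ' ψ θ m' h' hm' hov) ψ hov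
      m m' h hm h' hm'
  · obtain ⟨θ, hθ, hov⟩ := exists_sinv_below S H L hsolvH hcopH hnH hLH hLnH hLS ψ hψ
    exact (core θ hθ).2.2 ψ hov

end Cfsg.Agent.OddCorr
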