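import Mathlib

/-!
# The invariant retraction of a class-two group of odd order onto its centre part

With the Baer addition the group is abelian, and averaging over a coprime group of operators
gives a map `r` with `r (a * b) = r a * r b * ⁅a, b⁆ ^ h`, `h` one half modulo the order.
-/

set_option autoImplicit false
set_option linter.all false

namespace Cfsg.Agent.OddCorr

open scoped commutatorElement

universe u v

/-- Wrapper carrying the Baer addition. -/
structure Ber (K : Type u) where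
  v : K

@[ext] theorem Ber.ext' {K : Type u} {x y : Ber K} (h : x.v = y.v) : x = y := by
  cases x; cases y; simp_all

section

variable {K : Type u} [Group K]

theorem comm_eq (a b : K) : a * b = ⁅a, b⁆ * (b * a) := by
  rw [commutatorElement_def]; group

theorem comm_mul_left (hc : ∀ a b : K, ⁅a, b⁆ ∈ Subgroup.center K) (a b c : K) :
    ⁅a * b, c⁆ = ⁅a, c⁆ * ⁅b, c⁆ := by
  rw [show ⁅a * b, c⁆ = a * ⁅b, c⁆ * a⁻¹ * ⁅a, c⁆ by simp only [commutatorElement_def]; group,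
    Subgroup.mem_center_iff.mp (hc b c) a, mul_inv_cancel_right,
    Subgroup.mem_center_iff.mp (hc b c) ⁅a, c⁆]

theorem comm_mul_right (hc : ∀ a b : K, ⁅a, b⁆ ∈ Subgroup.center K) (a b c : K) :
    ⁅a, b * c⁆ = ⁅a, b⁆ * ⁅a, c⁆ := by
  apply inv_injective
  rw [commutatorElement_inv, comm_mul_left hc, mul_inv_rev, commutatorElement_inv,
    commutatorElement_inv, Subgroup.mem_center_iff.mp (hc c a) ⁅b, a⁆]

theorem comm_central_left {z : K} (hz : z ∈ Subgroup.center K) (a : K) : ⁅z, a⁆ = 1 :=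
  commutatorElement_eq_one_iff_mul_comm.mpr (Subgroup.mem_center_iff.mp hz a).symm

theorem comm_central_right {z : K} (hz : z ∈ Subgroup.center K) (a : K) : ⁅a, z⁆ = 1 :=
  commutatorElement_eq_one_iff_mul_comm.mpr (Subgroup.mem_center_iff.mp hz a)

theorem pow_two_half [Finite K] (hodd : Odd (Nat.card K)) (z : K) :
    z ^ ((Nat.card K + 1) / 2) * z ^ ((Nat.card K + 1) / 2) = z := by
  obtain ⟨m, hm⟩ := hodd
  rw [← pow_add, show (Nat.card K + 1) / 2 + (Nat.card K + 1) / 2 = Nat.card K + 1 by omega,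
    pow_succ, pow_card_eq_one', one_mul]

/-- The invariant retraction. -/
theorem exists_retraction [Finite K] (hodd : Odd (Nat.card K)) (Z : Subgroup K)
    (hZ : Z ≤ Subgroup.center K) (hder : ∀ a b : K, ⁅a, b⁆ ∈ Z) {A : Type v} [Group A] [Finite A]
    (ψ : A →* MulAut K) (hcop : (Nat.card A).Coprime (Nat.card K))
    (hZfix : ∀ a, ∀ z ∈ Z, ψ a z = z) (hfix : ∀ k, (∀ a, ψ a k = k) → k ∈ Z) :
    ∃ r : K → K, (∀ k, r k ∈ Z) ∧ (∀ z ∈ Z, r z = z) ∧
      (∀ a b, r (a * b) = r a * r b * ⁅a, b⁆ ^ ((Nat.card K + 1) / 2)) ∧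
      (∀ a k, r (ψ a k) = r k) ∧
      ∀ c : MulAut K, (∀ z ∈ Z, c z = z) → (∀ a k, c (ψ a k) = ψ a (c k)) → ∀ k, r (c k) = r k := by
  classical
  haveI := Fintype.ofFinite A
  set h := (Nat.card K + 1) / 2 with hh
  have hc : ∀ a b : K, ⁅a, b⁆ ∈ Subgroup.center K := fun a b => hZ (hder a b)
  have hce : ∀ a b : K, ⁅a, b⁆ ^ h ∈ Subgroup.center K := fun a b => pow_mem (hc a b) h
  have hsw : ∀ {z : K}, z ∈ Subgroup.center K → ∀ x : K, z * x = x * z := fun hz x =>
    (Subgroup.mem_center_iff.mp hz x).symm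
  letI : Mul (Ber K) := ⟨fun x y => ⟨x.v * y.v * ⁅y.v, x.v⁆ ^ h⟩⟩
  have mv : ∀ x y : Ber K, (x * y).v = x.v * y.v * ⁅y.v, x.v⁆ ^ h := fun _ _ => rfl
  letI : One (Ber K) := ⟨⟨1⟩⟩
  letI : Inv (Ber K) := ⟨fun x => ⟨x.v⁻¹⟩⟩
  letI : CommGroup (Ber K) :=
    { mul_assoc := fun x y z => Ber.ext' (by
        simp only [mv]
        rw [comm_mul_right hc, comm_mul_right hc, comm_central_right (hce y.v x.v) z.v, mul_one,
          comm_mul_left hc, comm_mul_left hc, comm_central_left (hce z.v y.v) x.v, mul_one]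
        have cc : ∀ a b : K, Commute (⁅a, b⁆) (⁅z.v, x.v⁆) := fun a b => hsw (hc a b) _
        rw [(cc y.v x.v).mul_pow, Commute.mul_pow (hsw (hc z.v x.v) ⁅z.v, y.v⁆)]
        have e : x.v * (y.v * z.v * ⁅z.v, y.v⁆ ^ h) = x.v * y.v * z.v * ⁅z.v, y.v⁆ ^ h := by
          simp only [mul_assoc]
        rw [e, show x.v * y.v * ⁅y.v, x.v⁆ ^ h * z.v = x.v * y.v * z.v * ⁅y.v, x.v⁆ ^ h by
          rw [mul_assoc (x.v * y.v), hsw (hce y.v x.v) z.v, ← mul_assoc]]
        generalize x.v * y.v * z.v = w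
        rw [mul_assoc w, mul_assoc w]
        congr 1
        rw [hsw (hce z.v x.v) (⁅z.v, y.v⁆ ^ h), hsw (hce y.v x.v) _, ← mul_assoc, mul_assoc,
          ← hsw (hce y.v x.v) (⁅z.v, x.v⁆ ^ h), ← mul_assoc])
      one_mul := fun x => Ber.ext' (by
        show 1 * x.v * ⁅x.v, (1 : K)⁆ ^ h = x.v
        simp)
      mul_one := fun x => Ber.ext' (by
        show x.v * 1 * ⁅(1 : K), x.v⁆ ^ h = x.v
        simp)
      inv_mul_cancel := fun x => Ber.ext' (by
        show x.v⁻¹ * x.v * ⁅x.v, x.v⁻¹⁆ ^ h = 1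
        simp [commutatorElement_def])
      mul_comm := fun x y => Ber.ext' (by
        simp only [mv]
        conv_lhs => rw [comm_eq x.v y.v, hsw (hc x.v y.v) _, mul_assoc]
        congr 1
        rw [← commutatorElement_inv x.v y.v, inv_pow, mul_inv_eq_iff_eq_mul, pow_two_half hodd]) }
  have one_v : (1 : Ber K).v = 1 := rfl
  have mul_z : ∀ x y : Ber K, y.v ∈ Subgroup.center K → (x * y).v = x.v * y.v := fun x y hy => by
    rw [mv, comm_central_left hy, one_pow, mul_one]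
  have pow_z : ∀ (x : Ber K), x.v ∈ Subgroup.center K → ∀ n : ℕ, (x ^ n).v = x.v ^ n := by
    intro x hx n
    induction n with
    | zero => rw [pow_zero, pow_zero]; exact one_v
    | succ n ih => rw [pow_succ, pow_succ, mul_z _ _ hx, ih]
  -- automorphisms respect the addition
  let lift : MulAut K → (Ber K →* Ber K) := fun c =>
    { toFun := fun x => ⟨c x.v⟩
      map_one' := Ber.ext' (by simp [one_v])
      map_mul' := fun x y => Ber.ext' (by simp [mv, map_commutatorElement]) }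
  let N : Ber K →* Ber K :=
    { toFun := fun x => ∏ a, lift (ψ a) x
      map_one' := by simp
      map_mul' := fun x y => by simp only [map_mul, Finset.prod_mul_distrib] }
  have hNA : ∀ a x, N (lift (ψ a) x) = N x := by
    intro a x
    show ∏ b, lift (ψ b) (lift (ψ a) x) = ∏ b, lift (ψ b) x
    exact Fintype.prod_equiv (Equiv.mulRight a) _ _ fun b => Ber.ext' (by
      show ψ b (ψ a x.v) = ψ (b * a) x.v
      rw [map_mul]; rfl)
  have hNmem : ∀ x, (N x).v ∈ Z := fun x => hfix _ fun a => by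
    have : lift (ψ a) (N x) = N x := by
      show lift (ψ a) (∏ b, lift (ψ b) x) = ∏ b, lift (ψ b) x
      rw [map_prod]
      exact Fintype.prod_equiv (Equiv.mulLeft a) _ _ fun b => Ber.ext' (by
        show ψ a (ψ b x.v) = ψ (a * b) x.v
        rw [map_mul]; rfl)
    exact congrArg Ber.v this
  have hNz : ∀ z ∈ Z, (N ⟨z⟩).v = z ^ Nat.card A := by
    intro z hz
    show (∏ a, lift (ψ a) ⟨z⟩).v = _
    rw [Finset.prod_congr rfl fun a _ => show lift (ψ a) ⟨z⟩ = (⟨z⟩ : Ber K) from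
      Ber.ext' (hZfix a z hz), Finset.prod_const, pow_z _ (hZ hz), Finset.card_univ,
      Nat.card_eq_fintype_card]
  obtain ⟨i, hi⟩ : ∃ i : ℕ, ∀ z : K, (z ^ Nat.card A) ^ i = z := by
    haveI : NeZero (Nat.card K) := ⟨Nat.card_pos.ne'⟩
    refine ⟨((Nat.card A : ZMod (Nat.card K))⁻¹).val, fun z => ?_⟩
    have e : Nat.card A * ((Nat.card A : ZMod (Nat.card K))⁻¹).val ≡ 1 [MOD Nat.card K] := by
      rw [← ZMod.natCast_eq_natCast_iff, Nat.cast_mul, Nat.cast_one, ZMod.natCast_zmod_val,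
        ZMod.coe_mul_inv_eq_one _ hcop]
    conv_rhs => rw [← pow_one z]
    rw [← pow_mul]
    exact pow_eq_pow_iff_modEq.mpr (e.of_dvd (orderOf_dvd_natCard z))
  have hNzmul : ∀ x y : Ber K, (N (x * y)).v = (N x).v * (N y).v := fun x y => by
    rw [map_mul, mul_z _ _ (hZ (hNmem y))]
  refine ⟨fun k => (N ⟨k⟩).v ^ i, fun k => pow_mem (hNmem _) i, fun z hz => ?_, fun a b => ?_,
    fun a k => ?_, fun c hcZ hcA k => ?_⟩
  · show (N ⟨z⟩).v ^ i = z
    rw [hNz z hz, hi]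
  · show (N ⟨a * b⟩).v ^ i = _
    have e : (⟨a * b⟩ : Ber K) = ⟨a⟩ * ⟨b⟩ * ⟨⁅a, b⁆ ^ h⟩ := Ber.ext' (by
      rw [mul_z _ _ (hce a b), mv, mul_assoc, ← commutatorElement_inv a b, inv_pow,
        inv_mul_cancel, mul_one])
    rw [e, hNzmul, hNzmul, hNz _ (pow_mem (hder a b) h),
      Commute.mul_pow (hsw (hZ (mul_mem (hNmem ⟨a⟩) (hNmem ⟨b⟩))) _),
      Commute.mul_pow (hsw (hZ (hNmem ⟨a⟩)) _), hi]
  · show (N ⟨ψ a k⟩).v ^ i = _
    rw [show (⟨ψ a k⟩ : Ber K) = lift (ψ a) ⟨k⟩ from rfl, hNA]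
  · show (N ⟨c k⟩).v ^ i = _
    have e : N (lift c ⟨k⟩) = lift c (N ⟨k⟩) := by
      show ∏ a, lift (ψ a) (lift c ⟨k⟩) = lift c (∏ a, lift (ψ a) ⟨k⟩)
      rw [map_prod]
      exact Finset.prod_congr rfl fun a _ => Ber.ext' (hcA a k).symm
    rw [show (⟨c k⟩ : Ber K) = lift c ⟨k⟩ from rfl, e,
      show (lift c (N ⟨k⟩)).v = c (N ⟨k⟩).v from rfl, hcZ _ (hNmem _)]

end

end Cfsg.Agent.OddCorr
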