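import Cfsg.Agent.Lib.OddCorr.Central
import Cfsg.Agent.Lib.OddCorr.Lift
import Cfsg.Agent.Lib.CT.Degree

/-!
# The correspondence over a fully invariant character

An invariant character triple is replaced by a central one, where the inversion modulo the centre
settles the matter.
-/

set_option autoImplicit false
set_option linter.all false

namespace Cfsg.Agent.OddCorr

open Cfsg.Agent Cfsg.Agent.CT Cfsg.Agent.RelCount Cfsg.Agent.CentralReduction
open scoped commutatorElement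

universe u

variable {Γ : Type u} [Group Γ] [Fintype Γ]

set_option maxHeartbeats 1600000 in
theorem triple_main (L G S K H : Subgroup Γ) [L.Normal] [G.Normal] [Fintype L] [Fintype G]
    [Fintype H] (hodd : Odd (Nat.card G)) (hsolv : Group.IsSolvable G)
    (hcop : (Nat.card G).Coprime (Nat.card S)) (hLK : L ≤ K) (hKG : K ≤ G)
    (hH : H = L ⊔ (G ⊓ Subgroup.centralizer (S : Set Γ))) (hHG : H ≤ G)
    (hKn : ∀ g ∈ G, ∀ k ∈ K, g * k * g⁻¹ ∈ K) (hKS : ∀ s ∈ S, ∀ k ∈ K, s * k * s⁻¹ ∈ K)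
    (hab : ∀ a ∈ K, ∀ b ∈ K, ⁅a, b⁆ ∈ L) (hKH : K ⊓ H ≤ L) (hGKH : K ⊔ H = G)
    (θ : IrrCharacter L) (hθ : ∀ g : Γ, conjFun L g (θ : L → ℂ) = θ) :
    (∀ χ : IrrCharacter G,
        (∀ s ∈ S, ∀ g g' : G, (g' : Γ) = s * g * s⁻¹ → (χ : G → ℂ) g' = (χ : G → ℂ) g) →
        classInner (fun l : L => (χ : G → ℂ) ⟨l, hKG (hLK l.2)⟩) (θ : L → ℂ) ≠ 0 →
        ∃! ψ : IrrCharacter H, ∃ m : ℕ,
          classInner (fun h : H => (χ : G → ℂ) ⟨h, hHG h.2⟩) (ψ : H → ℂ) = (m : ℂ) ∧ Odd m) ∧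
    (∀ χ χ' : IrrCharacter G,
        (∀ s ∈ S, ∀ g g' : G, (g' : Γ) = s * g * s⁻¹ → (χ : G → ℂ) g' = (χ : G → ℂ) g) →
        classInner (fun l : L => (χ : G → ℂ) ⟨l, hKG (hLK l.2)⟩) (θ : L → ℂ) ≠ 0 →
        (∀ s ∈ S, ∀ g g' : G, (g' : Γ) = s * g * s⁻¹ → (χ' : G → ℂ) g' = (χ' : G → ℂ) g) →
        classInner (fun l : L => (χ' : G → ℂ) ⟨l, hKG (hLK l.2)⟩) (θ : L → ℂ) ≠ 0 →
        ∀ ψ : IrrCharacter H, ∀ m m' : ℕ,
          classInner (fun h : H => (χ : G → ℂ) ⟨h, hHG h.2⟩) (ψ : H → ℂ) = (m : ℂ) → Odd m →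
          classInner (fun h : H => (χ' : G → ℂ) ⟨h, hHG h.2⟩) (ψ : H → ℂ) = (m' : ℂ) → Odd m' →
          χ = χ') ∧
    ∀ ψ : IrrCharacter H,
        classInner (fun l : L => (ψ : H → ℂ) ⟨l, (le_sup_left.trans hH.ge : L ≤ H) l.2⟩) (θ : L → ℂ) ≠ 0 →
        (∀ s ∈ S, ∀ h h' : H, (h' : Γ) = s * h * s⁻¹ → (ψ : H → ℂ) h' = (ψ : H → ℂ) h) ∧
        ∃ χ : IrrCharacter G,
          (∀ s ∈ S, ∀ g g' : G, (g' : Γ) = s * g * s⁻¹ → (χ : G → ℂ) g' = (χ : G → ℂ) g) ∧
          classInner (fun l : L => (χ : G → ℂ) ⟨l, hKG (hLK l.2)⟩) (θ : L → ℂ) ≠ 0 ∧ ∃ m : ℕ,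
          classInner (fun h : H => (χ : G → ℂ) ⟨h, hHG h.2⟩) (ψ : H → ℂ) = (m : ℂ) ∧ Odd m := by
  classical
  have hLH : L ≤ H := le_sup_left.trans hH.ge
  have hLG : L ≤ G := hKG.trans' hLK
  obtain ⟨d, τ, hτ, hτθ⟩ := θ.2
  haveI := hτ
  have hd : d ≠ 0 := by
    haveI := ((isIrreducible_iff τ).mp hτ).1
    intro h
    subst h
    exact false_of_nontrivial_of_subsingleton (Fin 0 → ℂ)
  have hinv : ∀ g : Γ, Conj L g τ.character τ.character := fun g k k' he => by
    rw [hτθ]
    have := congrFun (hθ g) k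
    rw [show k' = ⟨g * k * g⁻¹, ‹L.Normal›.conj_mem (k : Γ) k.2 g⟩ from Subtype.ext he]
    exact this
  set pr := prG L τ with hpr
  set q := qB L τ with hq
  have prs : Function.Surjective pr := prG_surjective L τ hinv
  have qs : Function.Surjective q := qB_surjective L τ
  haveI : Finite (Bar L τ) := Finite.of_surjective q qs
  haveI := Fintype.ofFinite (Gam L τ)
  haveI := Fintype.ofFinite (Bar L τ)
  haveI := Fintype.ofFinite (Zb L τ)
  obtain ⟨ζ, hζ⟩ := exists_zeta L τ
  have hqemb : ∀ l : L, q (emb L τ l) = 1 := fun l => (QuotientGroup.eq_one_iff _).mpr ⟨l, rfl⟩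
  have mb : ∀ (M : Subgroup Γ) (x : Gam L τ), pr x ∈ M → q x ∈ barOf L τ M := fun M x h => ⟨x, h, rfl⟩
  have hq1 : ∀ x, q x = 1 → pr x ∈ L := fun x hx => by
    obtain ⟨l, rfl⟩ := (QuotientGroup.eq_one_iff x).mp hx
    exact l.2
  have hqL : ∀ x, pr x ∈ L → q x ∈ Zb L τ := fun x hx => by
    refine ⟨(emb L τ ⟨pr x, hx⟩)⁻¹ * x, ?_, ?_⟩
    · show pr ((emb L τ ⟨pr x, hx⟩)⁻¹ * x) = 1
      rw [map_mul, map_inv]
      exact inv_mul_cancel _
    · show q ((emb L τ ⟨pr x, hx⟩)⁻¹ * x) = q x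
      rw [map_mul, map_inv, hqemb, inv_one, one_mul]
  -- exponents
  have hkerpow : ∀ z, pr z = 1 → z ^ (d * Nat.card L) = 1 := by
    intro z hz
    haveI := ((isIrreducible_iff τ).mp hτ).1
    obtain ⟨c, hc⟩ := ker_scalar L τ z hz
    have hdet : detU (scU (W := Fin d → ℂ) c) ^ Nat.card L = 1 := hc ▸ z.2.2
    refine Subtype.ext (Prod.ext ?_ ?_)
    · show pr (z ^ (d * Nat.card L)) = 1
      rw [map_pow, hz, one_pow]
    · show ((z : Γ × (Module.End ℂ (Fin d → ℂ))ˣ).2) ^ (d * Nat.card L) = 1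
      rw [hc, show (scU c : (Module.End ℂ (Fin d → ℂ))ˣ) ^ (d * Nat.card L) = scU (c ^ (d * Nat.card L))
        from (map_pow (Units.map (algebraMap ℂ (Module.End ℂ (Fin d → ℂ))).toMonoidHom) c _).symm,
        pow_mul, ← detU_scU (d := d), hdet, scU_one]
  have hdL : d ∣ Nat.card L := by
    have h1 : deg (θ : L → ℂ) = d := by
      have := deg_eq (isCharacter_of_isIrr θ.2)
      rw [← hτθ, Representation.char_one, Module.finrank_fin_fun, hτθ] at this
      exact_mod_cast this.symm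
    rw [← h1]
    exact Glauberman.deg_dvd_card θ
  have hGbn : (barOf L τ G).Normal := ((‹G.Normal›.comap pr).map q qs)
  haveI := hGbn
  let ψA : (barOf L τ S) →* MulAut (barOf L τ G) := MulAut.conjNormal.comp (barOf L τ S).subtype
  let A := ψA.range
  let φ : A →* MulAut (barOf L τ G) := A.subtype
  haveI := Fintype.ofFinite (barOf L τ G)
  have hGprime : ∀ r : ℕ, r.Prime → r ∣ Nat.card (barOf L τ G) → r ∣ Nat.card G := by
    intro r hr hdvd
    haveI := Fact.mk hr
    obtain ⟨⟨_, x, hx, rfl⟩, hord⟩ := exists_prime_orderOf_dvd_card' r hdvd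
    have h1 : pr (x ^ Nat.card G) = 1 := by
      rw [map_pow]
      exact congrArg Subtype.val (pow_card_eq_one' (x := (⟨pr x, hx⟩ : G)))
    have h2 : x ^ (Nat.card G * (d * Nat.card L)) = 1 := by rw [pow_mul, hkerpow _ h1]
    have h3 : r ∣ Nat.card G * (d * Nat.card L) := by
      rw [← hord]
      refine orderOf_dvd_of_pow_eq_one (Subtype.ext ?_)
      rw [Subgroup.coe_pow, Subgroup.coe_one]
      show q x ^ _ = 1
      rw [← map_pow, h2, map_one]
    rcases hr.dvd_mul.mp h3 with h | h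
    · exact h
    · rcases hr.dvd_mul.mp h with h' | h'
      · exact (h'.trans hdL).trans (Subgroup.card_dvd_of_le hLG)
      · exact h'.trans (Subgroup.card_dvd_of_le hLG)
  have hoddb : Odd (Nat.card (barOf L τ G)) := Nat.not_even_iff_odd.mp fun he =>
    Nat.not_even_iff_odd.mpr hodd (even_iff_two_dvd.mpr (hGprime 2 Nat.prime_two (even_iff_two_dvd.mp he)))
  have hsolvb : Group.IsSolvable (barOf L τ G) := by
    let B := G.comap pr
    let f : B →* G := pr.subgroupComap G
    haveI := hsolv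
    haveI : Group.IsSolvable f.ker := isSolvable_of_comm fun a b => Subtype.ext (Subtype.ext
      (Subgroup.mem_center_iff.mp (ker_central L τ (b : B) (congrArg Subtype.val b.2)) _))
    haveI : Group.IsSolvable B :=
      Group.isSolvable_of_ker_le_range f.ker.subtype f (by rw [Subgroup.range_subtype])
    exact Group.isSolvable_of_surjective (f := q.subgroupMap B) (q.subgroupMap_surjective B)
  have hcopA : (Nat.card A).Coprime (Nat.card (barOf L τ G)) := by
    refine Nat.coprime_of_dvd fun r hr hA hG' => ?_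
    haveI := Fact.mk hr
    obtain ⟨⟨_, ⟨⟨_, y, hy, rfl⟩, rfl⟩⟩, hord⟩ := exists_prime_orderOf_dvd_card' r hA
    have h1 : r ∣ Nat.card S := by
      rw [← hord]
      refine orderOf_dvd_of_pow_eq_one (Subtype.ext ?_)
      rw [Subgroup.coe_pow, Subgroup.coe_one, ← map_pow]
      refine MulEquiv.ext fun w => Subtype.ext ?_
      show (MulAut.conjNormal ((q y) ^ Nat.card S) w : (barOf L τ G)).1 = w.1
      rw [MulAut.conjNormal_apply]
      have hz : q (y ^ Nat.card S) ∈ Zb L τ := ⟨_, (by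
        show pr (y ^ Nat.card S) = 1
        rw [map_pow]
        exact congrArg Subtype.val (pow_card_eq_one' (x := (⟨pr y, hy⟩ : S)))), rfl⟩
      rw [← map_pow, ← Subgroup.mem_center_iff.mp (zb_center L τ hz) w.1, mul_inv_cancel_right]
    exact hr.one_lt.ne' (Nat.dvd_one.mp (hcop ▸ Nat.dvd_gcd (hGprime r hr hG') h1))
  let Kb : Subgroup (barOf L τ G) := (barOf L τ K).subgroupOf (barOf L τ G)
  let Zg : Subgroup (barOf L τ G) := (Zb L τ).subgroupOf (barOf L τ G)
  let Hg : Subgroup (barOf L τ G) := (barOf L τ H).subgroupOf (barOf L τ G)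
  haveI := Fintype.ofFinite Zg
  haveI := Fintype.ofFinite Hg
  have hKbG : barOf L τ K ≤ (barOf L τ G) := Subgroup.map_mono fun x hx => hKG hx
  have hHbG : barOf L τ H ≤ (barOf L τ G) := Subgroup.map_mono fun x hx => hHG hx
  haveI : Kb.Normal := ⟨fun k hk g => by
    obtain ⟨x, hx, hx'⟩ := hk
    obtain ⟨y, hy, hy'⟩ := g.2
    refine ⟨y * x * y⁻¹, ?_, ?_⟩
    · show pr (y * x * y⁻¹) ∈ K
      rw [map_mul, map_mul, map_inv]
      exact hKn _ hy _ hx
    · show q (y * x * y⁻¹) = (g : Bar L τ) * k * (g : Bar L τ)⁻¹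
      rw [map_mul, map_mul, map_inv, show q x = (k : Bar L τ) from hx', show q y = (g : Bar L τ) from hy']⟩
  have hfix : ∀ w : (barOf L τ G), w ∈ Hg ↔ ∀ a : A, φ a w = w := by
    intro w
    obtain ⟨x, hx, hxw⟩ := w.2
    have hxw' : q x = (w : Bar L τ) := hxw
    have hcomm : (∀ a : A, φ a w = w) ↔ ∀ y, pr y ∈ S → q y * q x = q x * q y := by
      constructor
      · intro h y hy
        have := congrArg Subtype.val (h ⟨ψA ⟨q y, mb S y hy⟩, ⟨_, rfl⟩⟩)
        change (MulAut.conjNormal (q y) w : (barOf L τ G)).1 = w.1 at this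
        rw [MulAut.conjNormal_apply, ← hxw', mul_inv_eq_iff_eq_mul] at this
        exact this
      · rintro h ⟨_, ⟨_, y, hy, rfl⟩, rfl⟩
        refine Subtype.ext ?_
        show (MulAut.conjNormal (q y) w : (barOf L τ G)).1 = w.1
        rw [MulAut.conjNormal_apply, ← hxw', h y hy, mul_inv_cancel_right]
    rw [hcomm]
    constructor
    · rintro ⟨x', hx', he⟩ y hy
      have he' : q x' = (w : Bar L τ) := he
      rw [hxw', ← he']
      have hxH : pr x' ∈ L ⊔ (G ⊓ Subgroup.centralizer (S : Set Γ)) := hH ▸ hx'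
      rw [Subgroup.mem_sup_of_normal_left] at hxH
      obtain ⟨l, hl, c, hc, hlc⟩ := hxH
      obtain ⟨xc, rfl⟩ := prs c
      have h1 : q x' * (q xc)⁻¹ ∈ Zb L τ := by
        rw [← map_inv, ← map_mul]
        refine hqL _ ?_
        rw [map_mul, map_inv, ← hlc, mul_inv_cancel_right]
        exact hl
      suffices h2 : q y * q xc = q xc * q y by
        have h3 := Subgroup.mem_center_iff.mp (zb_center L τ h1) (q y)
        rw [show q x' = q x' * (q xc)⁻¹ * q xc from (inv_mul_cancel_right _ _).symm, ← mul_assoc,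
          h3, mul_assoc, h2, ← mul_assoc]
      -- the commutator with a lift of the operator is central of coprime order
      set z := q xc * q y * (q xc)⁻¹ * (q y)⁻¹ with hz
      have hzb : z ∈ Zb L τ := by
        rw [hz, ← map_inv, ← map_inv, ← map_mul, ← map_mul, ← map_mul]
        refine ⟨_, ?_, rfl⟩
        show pr (xc * y * xc⁻¹ * y⁻¹) = 1
        rw [map_mul, map_mul, map_mul, map_inv, map_inv,
          ← Subgroup.mem_centralizer_iff.mp hc.2 _ hy, mul_inv_cancel_right, mul_inv_cancel]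
      have hzc := zb_center L τ hzb
      have hn : z ^ Nat.card S = 1 := by
        have e : q xc * q y * (q xc)⁻¹ = z * q y := by rw [hz, inv_mul_cancel_right]
        have hyc : q y ^ Nat.card S ∈ Zb L τ := by
          rw [← map_pow]
          refine ⟨_, ?_, rfl⟩
          show pr (y ^ Nat.card S) = 1
          rw [map_pow]
          exact congrArg Subtype.val (pow_card_eq_one' (x := (⟨pr y, hy⟩ : S)))
        have e2 := congrArg (fun t => t ^ Nat.card S) e
        simp only [conj_pow] at e2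
        rw [Subgroup.mem_center_iff.mp (zb_center L τ hyc) (q xc), mul_inv_cancel_right,
          Commute.mul_pow ((Subgroup.mem_center_iff.mp hzc (q y)).symm)] at e2
        exact mul_eq_right.mp e2.symm
      have hn2 : z ^ (d * Nat.card L) = 1 := by
        obtain ⟨z0, hz0, hz0'⟩ := hzb
        rw [← hz0', ← map_pow, hkerpow z0 hz0, map_one]
      have hz1 : z = 1 := by
        refine orderOf_eq_one_iff.mp (Nat.eq_one_of_dvd_coprimes ?_
          (orderOf_dvd_of_pow_eq_one hn) (orderOf_dvd_of_pow_eq_one hn2))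
        have hLS : (Nat.card S).Coprime (Nat.card L) :=
          hcop.symm.coprime_dvd_right (Subgroup.card_dvd_of_le hLG)
        exact (hLS.coprime_dvd_right hdL).mul_right hLS
      rw [hz, mul_inv_eq_one, mul_inv_eq_iff_eq_mul] at hz1
      exact hz1.symm
    · intro h
      refine ⟨x, ?_, hxw⟩
      show pr x ∈ H
      have hgS : ∀ s ∈ S, s * pr x * s⁻¹ * (pr x)⁻¹ ∈ L := fun s hs => by
        obtain ⟨y, rfl⟩ := prs s
        have : q (y * x * y⁻¹ * x⁻¹) = 1 := by
          rw [map_mul, map_mul, map_mul, map_inv, map_inv, h y hs, mul_inv_cancel_right, mul_inv_cancel]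
        have := hq1 _ this
        rwa [map_mul, map_mul, map_mul, map_inv, map_inv] at this
      haveI := hsolv
      have hLs : Group.IsSolvable L :=
        Group.isSolvable_of_isSolvable_injective (Subgroup.inclusion_injective hLG)
      obtain ⟨c, hc, hcL⟩ := Basics.exists_centralizer_mem_coset S L
        (fun s _ => by rw [Subgroup.normalizer_eq_top_iff.mpr inferInstance]; trivial)
        (hcop.symm.coprime_dvd_right (Subgroup.card_dvd_of_le hLG)) (Or.inr hLs) (pr x)
        (by rw [Subgroup.normalizer_eq_top_iff.mpr inferInstance]; trivial) hgS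
      have hcH : c ∈ H := by
        rw [hH]
        refine Subgroup.mem_sup_right ⟨?_, hc⟩
        have hx1 : pr x ∈ G := hx
        have := mul_mem hx1 (hLG hcL)
        rwa [mul_inv_cancel_left] at this
      have := mul_mem hcH (inv_mem (hLH hcL))
      rwa [mul_inv_rev, inv_inv, mul_inv_cancel_left] at this
  obtain ⟨c1, c2, c3⟩ := central_main (G := (barOf L τ G)) φ hoddb hsolvb hcopA Zg Kb Hg
    (fun z hz => Subgroup.mem_center_iff.mpr fun g => Subtype.ext
      (Subgroup.mem_center_iff.mp (zb_center L τ (Subgroup.mem_subgroupOf.mp hz)) (g : Bar L τ)))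
    (fun z hz => Subgroup.mem_subgroupOf.mpr (zb_le_barOf L τ H hz))
    (fun z hz => Subgroup.mem_subgroupOf.mpr (zb_le_barOf L τ K hz))
    (by
      rintro ⟨_, ⟨_, y, hy, rfl⟩, rfl⟩ k hk
      obtain ⟨x, hx, hx'⟩ := hk
      refine Subgroup.mem_subgroupOf.mpr ⟨y * x * y⁻¹, ?_, ?_⟩
      · show pr (y * x * y⁻¹) ∈ K
        rw [map_mul, map_mul, map_inv]
        exact hKS _ hy _ hx
      · show q (y * x * y⁻¹) = (MulAut.conjNormal (q y) k : (barOf L τ G)).1
        rw [MulAut.conjNormal_apply, map_mul, map_mul, map_inv, show q x = (k : Bar L τ) from hx'])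
    (by
      intro a ha b hb
      obtain ⟨x, hx, hx'⟩ := ha
      obtain ⟨y, hy, hy'⟩ := hb
      refine Subgroup.mem_subgroupOf.mpr ?_
      rw [show ((⁅a, b⁆ : (barOf L τ G)) : Bar L τ) = ⁅(a : Bar L τ), (b : Bar L τ)⁆ from
        map_commutatorElement (barOf L τ G).subtype a b, ← show q x = (a : Bar L τ) from hx',
        ← show q y = (b : Bar L τ) from hy', ← map_commutatorElement]
      refine hqL _ ?_
      rw [map_commutatorElement]
      exact hab _ hx _ hy)
    (by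
      rintro w ⟨⟨x, hx, hx'⟩, ⟨y, hy, hy'⟩⟩
      refine Subgroup.mem_subgroupOf.mpr ?_
      have : q (x⁻¹ * y) = 1 := by
        rw [map_mul, map_inv, show q x = (w : Bar L τ) from hx', show q y = (w : Bar L τ) from hy',
          inv_mul_cancel]
      have h1 := hq1 _ this
      rw [map_mul, map_inv] at h1
      have hxH : pr x ∈ H := by
        have := mul_mem (show pr y ∈ H from hy) (inv_mem (hLH h1))
        rwa [mul_inv_rev, inv_inv, mul_inv_cancel_left] at this
      rw [← show q x = (w : Bar L τ) from hx']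
      exact hqL _ (hKH ⟨hx, hxH⟩))
    (by
      refine eq_top_iff.mpr fun w _ => ?_
      obtain ⟨x, hx, hx'⟩ := w.2
      have hxG : pr x ∈ K ⊔ H := hGKH.ge hx
      haveI : (K.subgroupOf G).Normal := ⟨fun k hk g => hKn _ g.2 _ hk⟩
      obtain ⟨k, hk, h, hh, hkh⟩ : ∃ k ∈ K, ∃ h ∈ H, k * h = pr x := by
        have : (⟨pr x, hx⟩ : G) ∈ K.subgroupOf G ⊔ H.subgroupOf G := by
          rw [← Subgroup.subgroupOf_sup hKG hHG, hGKH, Subgroup.subgroupOf_self]
          trivial
        rw [Subgroup.mem_sup_of_normal_left] at this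
        obtain ⟨k, hk, h, hh, e⟩ := this
        exact ⟨k, hk, h, hh, congrArg Subtype.val e⟩
      obtain ⟨xk, hxk⟩ := prs k
      have hk' : q xk ∈ barOf L τ K := ⟨xk, (show pr xk ∈ K by rw [hxk]; exact hk), rfl⟩
      have hh' : q (xk⁻¹ * x) ∈ barOf L τ H := ⟨_, (show pr (xk⁻¹ * x) ∈ H by
        rw [map_mul, map_inv, hxk, ← hkh, inv_mul_cancel_left]; exact hh), rfl⟩
      have e : w = (⟨q xk, hKbG hk'⟩ : (barOf L τ G)) * ⟨q (xk⁻¹ * x), hHbG hh'⟩ := Subtype.ext (by
        show (w : Bar L τ) = q xk * q (xk⁻¹ * x)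
        rw [← map_mul, mul_inv_cancel_left]; exact hx'.symm)
      rw [e]
      exact Subgroup.mul_mem_sup (Subgroup.mem_subgroupOf.mpr hk') (Subgroup.mem_subgroupOf.mpr hh'))
    hfix
  -- transport
  haveI := Fintype.ofFinite (barOf L τ H)
  let eh : Hg ≃* barOf L τ H := Subgroup.subgroupOfEquivOfLe hHbG
  obtain ⟨eG, heG⟩ := exists_lift L τ hd hinv ζ hζ G hLG
  obtain ⟨eH, heH⟩ := exists_lift L τ hd hinv ζ hζ H hLH
  have hovG : ∀ χ : IrrCharacter G, Ov (Subgroup.inclusion hLG) τ.character (χ : G → ℂ) ↔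
      classInner (fun l : L => (χ : G → ℂ) ⟨l, hKG (hLK l.2)⟩) (θ : L → ℂ) ≠ 0 := fun χ => by
    rw [ov_def, hτθ]; rfl
  have hovH : ∀ ψ : IrrCharacter H, Ov (Subgroup.inclusion hLH) τ.character (ψ : H → ℂ) ↔
      classInner (fun l : L => (ψ : H → ℂ) ⟨l, hLH l.2⟩) (θ : L → ℂ) ≠ 0 := fun ψ => by
    rw [ov_def, hτθ]; rfl
  have hcenH : ∀ z, Subgroup.inclusion (zb_le_barOf L τ H) z ∈ Subgroup.center (barOf L τ H) := fun z =>
    Subgroup.mem_center_iff.mpr fun b => Subtype.ext (Subgroup.mem_center_iff.mp (zb_center L τ z.2) b)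
  have hcenG : ∀ z, Subgroup.inclusion (zb_le_barOf L τ G) z ∈ Subgroup.center (barOf L τ G) := fun z =>
    Subgroup.mem_center_iff.mpr fun b => Subtype.ext (Subgroup.mem_center_iff.mp (zb_center L τ z.2) b)
  -- multiplicities
  have hres : ∀ β : {β : IrrCharacter (barOf L τ G) //
      Ov (Subgroup.inclusion (zb_le_barOf L τ G)) (ζ : Zb L τ → ℂ) (β : barOf L τ G → ℂ)},
      let bH : barOf L τ H → ℂ := fun b => (β.1 : (barOf L τ G) → ℂ) ⟨b, hHbG b.2⟩
      (∀ γ : IrrCharacter (barOf L τ H), classInner bH (γ : barOf L τ H → ℂ) ≠ 0 →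
        Ov (Subgroup.inclusion (zb_le_barOf L τ H)) (ζ : Zb L τ → ℂ) (γ : barOf L τ H → ℂ)) ∧
      (∀ γ, classInner (fun h : H => ((eG β).1 : G → ℂ) ⟨h, hHG h.2⟩) ((eH γ).1 : H → ℂ) =
        classInner bH (γ.1 : barOf L τ H → ℂ)) ∧
      ∀ ψ : IrrCharacter H, classInner (fun h : H => ((eG β).1 : G → ℂ) ⟨h, hHG h.2⟩) (ψ : H → ℂ) ≠ 0 →
        Ov (Subgroup.inclusion hLH) τ.character (ψ : H → ℂ) := by
    intro β bH
    have hbc : IsCharacter (barOf L τ H) bH :=
      isCharacter_comp (Subgroup.inclusion hHbG) (isCharacter_of_isIrr β.1.2)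
    have hcentral := (SylowKernel.ov_central _ hcenG (Subgroup.inclusion_injective _) β.1.2 ζ).mp β.2
    have hover : ∀ γ : IrrCharacter (barOf L τ H), classInner bH (γ : barOf L τ H → ℂ) ≠ 0 →
        Ov (Subgroup.inclusion (zb_le_barOf L τ H)) (ζ : Zb L τ → ℂ) (γ : barOf L τ H → ℂ) := by
      intro γ hγ
      by_contra hno
      rw [ov_def] at hno
      let ι := Subgroup.inclusion (zb_le_barOf L τ H)
      have hgc := isCharacter_comp ι (isCharacter_of_isIrr γ.2)
      obtain ⟨η, hη⟩ := exists_constituent hgc (fun h0 => irr_one_ne_zero γ.2 (by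
        have := congrFun h0 1; simpa using this))
      have hne : (η : Zb L τ → ℂ) ≠ ζ := fun e => hη (by rw [e]; exact not_not.mp hno)
      have h0 : classInner (fun z => bH (ι z)) (η : Zb L τ → ℂ) = 0 := by
        rw [show (fun z => bH (ι z)) = (β.1 : (barOf L τ G) → ℂ) 1 • (ζ : Zb L τ → ℂ) from
          funext fun z => hcentral z, classInner_smul_left,
          irr_inner_of_ne ζ.2 η.2 hne.symm, mul_zero]
      have hdec : (fun z => bH (ι z)) =
          ∑ g : IrrCharacter (barOf L τ H), (CT.mult bH g : ℂ) • fun z => (g : barOf L τ H → ℂ) (ι z) := by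
        conv_lhs => rw [character_eq_sum hbc]
        funext z
        simp [Finset.sum_apply]
      rw [hdec, classInner_sum_left] at h0
      simp only [classInner_smul_left,
        mult_spec (isCharacter_comp ι (isCharacter_of_isIrr (Subtype.prop _)))
          (isCharacter_of_isIrr η.2)] at h0
      have h0' : ∑ g : IrrCharacter (barOf L τ H),
          CT.mult bH g * CT.mult (fun z => (g : barOf L τ H → ℂ) (ι z)) (η : Zb L τ → ℂ) = 0 := by
        exact_mod_cast h0
      rcases mul_eq_zero.mp (Finset.sum_eq_zero_iff.mp h0' γ (Finset.mem_univ _)) with h | h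
      · exact hγ (by rw [mult_spec hbc (isCharacter_of_isIrr γ.2), h, Nat.cast_zero])
      · exact hη (by rw [mult_spec hgc (isCharacter_of_isIrr η.2), h, Nat.cast_zero])
    have hsum : (fun h : H => ((eG β).1 : G → ℂ) ⟨h, hHG h.2⟩) =
        ∑ g : {g : IrrCharacter (barOf L τ H) //
          Ov (Subgroup.inclusion (zb_le_barOf L τ H)) (ζ : Zb L τ → ℂ) (g : barOf L τ H → ℂ)},
          classInner bH (g.1 : barOf L τ H → ℂ) • ((eH g).1 : H → ℂ) := by
      funext h
      obtain ⟨x, hx⟩ := prs (h : Γ)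
      have hxH : pr x ∈ H := hx ▸ h.2
      rw [show h = ⟨pr x, hxH⟩ from Subtype.ext hx.symm,
        show (⟨((⟨pr x, hxH⟩ : H) : Γ), hHG (⟨pr x, hxH⟩ : H).2⟩ : G) = ⟨pr x, hHG hxH⟩ from rfl,
        heG β x (hHG hxH), Finset.sum_apply]
      simp only [Pi.smul_apply, smul_eq_mul]
      rw [Finset.sum_congr rfl fun g _ => by rw [heH g x hxH, ← mul_assoc], ← Finset.sum_mul]
      congr 1
      show bH ⟨q x, mb H x hxH⟩ = _
      conv_lhs => rw [classFunction_eq_sum (isClassFunction_of_isCharacter hbc)]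
      rw [Finset.sum_apply]
      symm
      rw [← Finset.sum_subtype (Finset.univ.filter fun g : IrrCharacter (barOf L τ H) =>
          Ov (Subgroup.inclusion (zb_le_barOf L τ H)) (ζ : Zb L τ → ℂ) (g : barOf L τ H → ℂ))
        (fun g => by simp)
        (fun g : IrrCharacter (barOf L τ H) => classInner bH (g : barOf L τ H → ℂ) * (g : barOf L τ H → ℂ) ⟨q x, mb H x hxH⟩)]
      refine Finset.sum_subset (Finset.subset_univ _) fun g _ hg => ?_
      have : classInner bH (g : barOf L τ H → ℂ) = 0 := by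
        by_contra hne
        exact hg (Finset.mem_filter.mpr ⟨Finset.mem_univ _, hover g hne⟩)
      simp only [Pi.smul_apply, smul_eq_mul, this, zero_mul]
    refine ⟨hover, fun γ => ?_, fun ψ hψ => ?_⟩
    · rw [hsum, classInner_sum_left, Finset.sum_eq_single γ
        (fun b _ hne => by
          rw [classInner_smul_left, irr_inner_of_ne (eH b).1.2 (eH γ).1.2 fun e =>
            hne (eH.injective (Subtype.ext (Subtype.ext e))), mul_zero])
        (fun h => absurd (Finset.mem_univ _) h), classInner_smul_left,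
        irr_inner_self (eH γ).1.2, mul_one]
    · by_contra hno
      refine hψ ?_
      rw [hsum, classInner_sum_left]
      refine Finset.sum_eq_zero fun b _ => ?_
      rw [classInner_smul_left, irr_inner_of_ne (eH b).1.2 ψ.2 fun e =>
        hno (e ▸ (eH b).2), mul_zero]
  have hgb : ∀ (β : IrrCharacter (barOf L τ G)) (γ : IrrCharacter (barOf L τ H)),
      classInner (fun w : Hg => (β : (barOf L τ G) → ℂ) w) (Glauberman.compIrr eh γ : Hg → ℂ) =
        classInner (fun b : barOf L τ H => (β : (barOf L τ G) → ℂ) ⟨b, hHbG b.2⟩) (γ : barOf L τ H → ℂ) := fun β γ =>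
    Glauberman.classInner_comp_equiv eh (fun b => (β : (barOf L τ G) → ℂ) ⟨b, hHbG b.2⟩) (γ : barOf L τ H → ℂ)
  -- invariance
  have hinvar : ∀ β : {β : IrrCharacter (barOf L τ G) //
      Ov (Subgroup.inclusion (zb_le_barOf L τ G)) (ζ : Zb L τ → ℂ) (β : barOf L τ G → ℂ)},
      (∀ s ∈ S, ∀ g g' : G, (g' : Γ) = s * g * s⁻¹ → ((eG β).1 : G → ℂ) g' = ((eG β).1 : G → ℂ) g) ↔
        Glauberman.Inv φ (β.1 : (barOf L τ G) → ℂ) := by
    intro β
    have key : ∀ y (hy : pr y ∈ S) x (hx : pr x ∈ G), ∀ hx' : pr (y * x * y⁻¹) ∈ G,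
        ((eG β).1 : G → ℂ) ⟨pr (y * x * y⁻¹), hx'⟩ =
          (β.1 : (barOf L τ G) → ℂ) (ψA ⟨q y, mb S y hy⟩ ⟨q x, mb G x hx⟩) * (theta L τ).character x := by
      intro y hy x hx hx'
      rw [heG β _ hx', Representation.char_conj]
      congr 2
    constructor
    · rintro h ⟨_, ⟨_, y, hy, rfl⟩, rfl⟩
      let βa : IrrCharacter (barOf L τ G) := Glauberman.compIrr (ψA ⟨q y, mb S y hy⟩) β.1
      have hβa : Ov (Subgroup.inclusion (zb_le_barOf L τ G)) (ζ : Zb L τ → ℂ) (βa : (barOf L τ G) → ℂ) := by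
        rw [SylowKernel.ov_central _ hcenG (Subgroup.inclusion_injective _) βa.2 ζ]
        intro z
        have hc := (SylowKernel.ov_central _ hcenG (Subgroup.inclusion_injective _) β.1.2 ζ).mp β.2 z
        rw [Glauberman.compIrr_apply, Glauberman.compIrr_apply, map_one]
        rw [show ψA ⟨q y, mb S y hy⟩ (Subgroup.inclusion (zb_le_barOf L τ G) z) =
          Subgroup.inclusion (zb_le_barOf L τ G) z from Subtype.ext (by
            show (MulAut.conjNormal (q y) (Subgroup.inclusion (zb_le_barOf L τ G) z) : (barOf L τ G)).1 = z.1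
            rw [MulAut.conjNormal_apply]
            show q y * z.1 * (q y)⁻¹ = z.1
            rw [Subgroup.mem_center_iff.mp (zb_center L τ z.2) (q y), mul_inv_cancel_right])]
        exact hc
      have e : eG ⟨βa, hβa⟩ = eG β := by
        refine Subtype.ext (Subtype.ext (funext fun g => ?_))
        obtain ⟨x, hx⟩ := prs (g : Γ)
        have hxG : pr x ∈ G := hx ▸ g.2
        have hx' : pr (y * x * y⁻¹) ∈ G := by
          rw [map_mul, map_mul, map_inv]
          exact ‹G.Normal›.conj_mem _ hxG _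
        rw [show g = ⟨pr x, hxG⟩ from Subtype.ext hx.symm, heG _ x hxG,
          ← h (pr y) hy ⟨pr x, hxG⟩ ⟨_, hx'⟩ (show pr (y * x * y⁻¹) = pr y * pr x * (pr y)⁻¹ by rw [map_mul, map_mul, map_inv]), key y hy x hxG hx']
        rfl
      intro w
      exact congrFun (congrArg Subtype.val (congrArg Subtype.val (eG.injective e))) w
    · intro h s hs g g' hg
      obtain ⟨y, rfl⟩ := prs s
      obtain ⟨x, hx⟩ := prs (g : Γ)
      have hxG : pr x ∈ G := hx ▸ g.2
      have hx' : pr (y * x * y⁻¹) ∈ G := by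
        rw [map_mul, map_mul, map_inv, hx]
        exact hg ▸ g'.2
      rw [show g' = ⟨pr (y * x * y⁻¹), hx'⟩ from Subtype.ext (show (g' : Γ) = pr (y * x * y⁻¹) by rw [hg, map_mul, map_mul, map_inv, hx]),
        key y hs x hxG hx', show g = ⟨pr x, hxG⟩ from Subtype.ext hx.symm, heG β x hxG]
      congr 1
      exact h ⟨ψA ⟨q y, mb S y hs⟩, ⟨_, rfl⟩⟩ _
  refine ⟨fun χ hχ hov => ?_, fun χ χ' hχ hov hχ' hov' ψ m m' h hm h' hm' => ?_, fun ψ hψ => ?_⟩
  · obtain ⟨β, hβ⟩ := eG.surjective ⟨χ, (hovG χ).mpr hov⟩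
    obtain rfl : (eG β).1 = χ := congrArg Subtype.val hβ
    obtain ⟨γ', ⟨m, hm, hmo⟩, huniq⟩ := c1 β.1 ((hinvar β).mp hχ)
    obtain ⟨γ, rfl⟩ : ∃ γ, Glauberman.compIrr eh γ = γ' :=
      ⟨Glauberman.compIrr eh.symm γ', Subtype.ext (funext fun w => by simp [Glauberman.compIrr_apply])⟩
    rw [hgb] at hm
    have hγ := (hres β).1 γ (by rw [hm]; exact Nat.cast_ne_zero.mpr hmo.pos.ne')
    refine ⟨(eH ⟨γ, hγ⟩).1, ⟨m, by rw [(hres β).2.1]; exact hm, hmo⟩, ?_⟩
    rintro ψ ⟨k, hk, hko⟩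
    obtain ⟨γ1, hγ1⟩ := eH.surjective ⟨ψ, (hres β).2.2 ψ (by
      rw [hk]; exact Nat.cast_ne_zero.mpr hko.pos.ne')⟩
    obtain rfl : (eH γ1).1 = ψ := congrArg Subtype.val hγ1
    rw [(hres β).2.1] at hk
    have := huniq (Glauberman.compIrr eh γ1.1) ⟨k, by rw [hgb]; exact hk, hko⟩
    have e : γ1.1 = γ := Subtype.ext (funext fun b => by
      have := congrFun (congrArg Subtype.val this) (eh.symm b)
      simpa [Glauberman.compIrr_apply] using this)
    subst e
    rfl
  · obtain ⟨β, hβ⟩ := eG.surjective ⟨χ, (hovG χ).mpr hov⟩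
    obtain rfl : (eG β).1 = χ := congrArg Subtype.val hβ
    obtain ⟨β', hβ'⟩ := eG.surjective ⟨χ', (hovG χ').mpr hov'⟩
    obtain rfl : (eG β').1 = χ' := congrArg Subtype.val hβ'
    obtain ⟨γ, hγ⟩ := eH.surjective ⟨ψ, (hres β).2.2 ψ (by
      rw [h]; exact Nat.cast_ne_zero.mpr hm.pos.ne')⟩
    obtain rfl : (eH γ).1 = ψ := congrArg Subtype.val hγ
    rw [(hres β).2.1] at h
    rw [(hres β').2.1] at h'
    have e := c2 β.1 β'.1 ((hinvar β).mp hχ) ((hinvar β').mp hχ') (Glauberman.compIrr eh γ.1) m m'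
      (by rw [hgb]; exact h) hm (by rw [hgb]; exact h') hm'
    rw [Subtype.ext e]
  · obtain ⟨γ, hγ⟩ := eH.surjective ⟨ψ, (hovH ψ).mpr hψ⟩
    obtain rfl : (eH γ).1 = ψ := congrArg Subtype.val hγ
    refine ⟨?_, ?_⟩
    · intro s hs g g' hg
      obtain ⟨y, rfl⟩ := prs s
      obtain ⟨x, hx⟩ := prs (g : Γ)
      have hxH : pr x ∈ H := hx ▸ g.2
      have hx' : pr (y * x * y⁻¹) ∈ H := by
        rw [map_mul, map_mul, map_inv, hx]
        exact hg ▸ g'.2
      rw [show g' = ⟨pr (y * x * y⁻¹), hx'⟩ from Subtype.ext (show (g' : Γ) = pr (y * x * y⁻¹) by rw [hg, map_mul, map_mul, map_inv, hx]),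
        show g = ⟨pr x, hxH⟩ from Subtype.ext hx.symm, heH γ _ hx', heH γ x hxH,
        Representation.char_conj]
      congr 1
      refine congrArg (γ.1 : barOf L τ H → ℂ) (Subtype.ext ?_)
      show q (y * x * y⁻¹) = q x
      let w : (barOf L τ G) := ⟨q x, hHbG ⟨x, hxH, rfl⟩⟩
      have hw := congrArg Subtype.val
        ((hfix w).mp (show w ∈ Hg from ⟨x, hxH, rfl⟩) ⟨ψA ⟨q y, mb S y hs⟩, ⟨_, rfl⟩⟩)
      change (MulAut.conjNormal (q y) w : (barOf L τ G)).1 = w.1 at hw
      rw [MulAut.conjNormal_apply] at hw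
      rw [map_mul, map_mul, map_inv]
      exact hw
    · obtain ⟨β0, hβ0, m, hm, hmo⟩ := c3 (Glauberman.compIrr eh γ.1)
      rw [hgb] at hm
      have hβ : Ov (Subgroup.inclusion (zb_le_barOf L τ G)) (ζ : Zb L τ → ℂ) (β0 : (barOf L τ G) → ℂ) := by
        rw [ov_def]
        let Zh : Subgroup (barOf L τ H) := (Zb L τ).subgroupOf (barOf L τ H)
        haveI := Fintype.ofFinite Zh
        let ez : Zh ≃* Zb L τ := Subgroup.subgroupOfEquivOfLe (zb_le_barOf L τ H)
        have hg : classInner (fun z : Zh => (γ.1 : barOf L τ H → ℂ) z)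
            (fun z : Zh => (ζ : Zb L τ → ℂ) (ez z)) ≠ 0 := by
          have := (ov_def _ _ _).mp γ.2
          rw [← Glauberman.classInner_comp_equiv ez] at this
          exact this
        have := classInner_eq_of_res_ne_zero (H := Zh)
          (θ := fun b : barOf L τ H => (β0 : (barOf L τ G) → ℂ) ⟨b, hHbG b.2⟩)
          (isCharacter_comp (Subgroup.inclusion hHbG) (isCharacter_of_isIrr β0.2)) γ.1.2
          (isCharacter_comp ez.toMonoidHom (isCharacter_of_isIrr ζ.2))
          (by rw [hm]; exact Nat.cast_ne_zero.mpr hmo.pos.ne') hg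
        rw [← Glauberman.classInner_comp_equiv ez]
        exact this
      refine ⟨(eG ⟨β0, hβ⟩).1, (hinvar ⟨β0, hβ⟩).mpr hβ0, (hovG _).mp (eG ⟨β0, hβ⟩).2, m, ?_, hmo⟩
      rw [(hres ⟨β0, hβ⟩).2.1]
      exact hm

end Cfsg.Agent.OddCorr
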